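import Cfsg.Agent.H134.War

/-!
# S2453, Lie type: the interface

* `SS p e S` : every element of `S` is `x ^ e * y ^ e` with `x`, `y` of order prime to `p`;
* `PP p S` : every element of `S` is a product of two `p`-elements;
* `SS.kl`, `PP.kl` : `KL S k l`.
-/

set_option autoImplicit false

namespace Cfsg.Agent.H130.War

open Cfsg.Agent.H134.War

/-- every element is `x ^ e * y ^ e`, the orders of `x`, `y` being prime to `p` -/
def SS (p e : ℕ) (S : Type*) [Group S] : Prop :=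
  ∀ g : S, ∃ x y : S, g = x ^ e * y ^ e ∧ (orderOf x).Coprime p ∧ (orderOf y).Coprime p

/-- every element is a product of two `p`-elements -/
def PP (p : ℕ) (S : Type*) [Group S] : Prop :=
  ∀ g : S, ∃ x y : S, g = x * y ∧ (∃ a : ℕ, x ^ p ^ a = 1) ∧ ∃ b : ℕ, y ^ p ^ b = 1

variable {S T : Type*} [Group S] [Group T] {p e k l : ℕ}

theorem exists_pow_of_coprime {x : S} {n : ℕ} (h : (orderOf x).Coprime n) : ∃ z : S, (∃ j : ℕ, z = x ^ j) ∧ x = z ^ n := by
  obtain ⟨j, hj⟩ := exists_pow_eq_self_of_coprime h.symm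
  exact ⟨x ^ j, ⟨j, rfl⟩, by rw [← pow_mul, mul_comm, pow_mul, hj]⟩

theorem exists_pow_eq_of_dvd {x : S} (hx : (orderOf x).Coprime p) {a k' : ℕ} (hk : k = p ^ a * k') (hd : k' ∣ e) :
    ∃ z : S, x ^ e = z ^ k := by
  obtain ⟨c, rfl⟩ := hd
  have h1 : (orderOf (x ^ c)).Coprime (p ^ a) :=
    Nat.Coprime.pow_right a (Nat.Coprime.coprime_dvd_left (orderOf_pow_dvd c) hx)
  obtain ⟨z, -, hz⟩ := exists_pow_of_coprime h1
  refine ⟨z, ?_⟩
  rw [hk, pow_mul z, ← hz, ← pow_mul, mul_comm c k']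

/-- `SS` gives the word `x ^ k * y ^ l` when the `p'`-parts of `k`, `l` divide `e` -/
theorem SS.kl (h : SS p e S) {a b k' l' : ℕ} (hk : k = p ^ a * k') (hl : l = p ^ b * l') (hk' : k' ∣ e) (hl' : l' ∣ e) :
    KL S k l := by
  intro g
  obtain ⟨x, y, hg, hx, hy⟩ := h g
  obtain ⟨z, hz⟩ := exists_pow_eq_of_dvd hx hk hk'
  obtain ⟨w, hw⟩ := exists_pow_eq_of_dvd hy hl hl'
  exact ⟨z, w, by rw [hg, hz, hw]⟩

/-- the `p'`-part of `lcm k l` -/
def ee (p k l : ℕ) : ℕ := ordCompl[p] (Nat.lcm k l)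

theorem ordCompl_dvd_ee (p k l : ℕ) : ordCompl[p] k ∣ ee p k l ∧ ordCompl[p] l ∣ ee p k l :=
  ⟨Nat.ordCompl_dvd_ordCompl_of_dvd (Nat.dvd_lcm_left k l) p, Nat.ordCompl_dvd_ordCompl_of_dvd (Nat.dvd_lcm_right k l) p⟩

/-- the form to be used in the rows -/
theorem SS.kl' (h : SS p (ee p k l) S) : KL S k l :=
  h.kl (Nat.ordProj_mul_ordCompl_eq_self k p).symm (Nat.ordProj_mul_ordCompl_eq_self l p).symm
    (ordCompl_dvd_ee p k l).1 (ordCompl_dvd_ee p k l).2

theorem PP.kl (hp : p.Prime) (h : PP p S) (hk : ¬ p ∣ k) (hl : ¬ p ∣ l) : KL S k l := by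
  intro g
  obtain ⟨x, y, hg, ⟨a, ha⟩, ⟨b, hb⟩⟩ := h g
  have key : ∀ (z : S) (n c : ℕ), z ^ p ^ c = 1 → ¬ p ∣ n → ∃ w : S, z = w ^ n := by
    intro z n c hz hn
    have h1 : (orderOf z).Coprime n := by
      apply Nat.Coprime.coprime_dvd_left (orderOf_dvd_of_pow_eq_one hz)
      exact Nat.Coprime.pow_left c ((Nat.Prime.coprime_iff_not_dvd hp).2 hn)
    obtain ⟨w, -, hw⟩ := exists_pow_of_coprime h1
    exact ⟨w, hw⟩
  obtain ⟨u, hu⟩ := key x k a ha hk
  obtain ⟨v, hv⟩ := key y l b hb hl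
  exact ⟨u, v, by rw [hg, ← hu, ← hv]⟩

theorem SS.of_surjective {f : S →* T} (hf : Function.Surjective f) (h : SS p e S) : SS p e T := by
  intro g
  obtain ⟨s, rfl⟩ := hf g
  obtain ⟨x, y, hs, hx, hy⟩ := h s
  exact ⟨f x, f y, by rw [hs, map_mul, map_pow, map_pow], Nat.Coprime.coprime_dvd_left (orderOf_map_dvd f x) hx,
    Nat.Coprime.coprime_dvd_left (orderOf_map_dvd f y) hy⟩

theorem SS.congr (f : S ≃* T) (h : SS p e S) : SS p e T := h.of_surjective (f := f.toMonoidHom) f.surjective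

/-- it is enough to treat representatives modulo the kernel -/
theorem SS.of_lift {f : S →* T} (h : ∀ t : T, ∃ s : S, f s = t ∧ ∃ x y : S, s = x ^ e * y ^ e ∧ (orderOf x).Coprime p ∧
    (orderOf y).Coprime p) : SS p e T := by
  intro t
  obtain ⟨s, rfl, x, y, hs, hx, hy⟩ := h t
  exact ⟨f x, f y, by rw [hs, map_mul, map_pow, map_pow], Nat.Coprime.coprime_dvd_left (orderOf_map_dvd f x) hx,
    Nat.Coprime.coprime_dvd_left (orderOf_map_dvd f y) hy⟩

theorem PP.of_surjective {f : S →* T} (hf : Function.Surjective f) (h : PP p S) : PP p T := by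
  intro g
  obtain ⟨s, rfl⟩ := hf g
  obtain ⟨x, y, hs, ⟨a, ha⟩, ⟨b, hb⟩⟩ := h s
  exact ⟨f x, f y, by rw [hs, map_mul], ⟨a, by rw [← map_pow, ha, map_one]⟩, ⟨b, by rw [← map_pow, hb, map_one]⟩⟩

theorem PP.congr (f : S ≃* T) (h : PP p S) : PP p T := h.of_surjective (f := f.toMonoidHom) f.surjective

/-! ## The numbers -/

/-- `gcd (k, l) ≠ 1` and `p ∣ k` or `p ∣ l` : bounds for `e` -/
theorem ee_le (hk : 1 ≤ k) (hg : ¬ k.Coprime l) : 2 * ee p k l ≤ (max k l) ^ 2 := by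
  have h1 : ee p k l ≤ Nat.lcm k l := Nat.ordCompl_le _ _
  have h2 : Nat.gcd k l * Nat.lcm k l = k * l := Nat.gcd_mul_lcm k l
  have h3 : 2 ≤ Nat.gcd k l := by
    have : Nat.gcd k l ≠ 0 := Nat.gcd_ne_zero_left (by omega)
    have h4 : Nat.gcd k l ≠ 1 := hg
    omega
  have h5 : k * l ≤ (max k l) ^ 2 := by
    rw [sq]; exact Nat.mul_le_mul (le_max_left _ _) (le_max_right _ _)
  nlinarith [Nat.mul_le_mul h3 h1, Nat.mul_le_mul_right (Nat.lcm k l) h3]

/-- for `m ≤ 5` only `p`-powers occur -/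
theorem ee_eq_one (hp : p.Prime) (hk : 2 ≤ k) (hl : 2 ≤ l) (hg : ¬ k.Coprime l) (hm : max k l ≤ 5) (hd : p ∣ k ∨ p ∣ l) :
    ee p k l = 1 := by
  have hk5 : k ≤ 5 := le_trans (le_max_left _ _) hm
  have hl5 : l ≤ 5 := le_trans (le_max_right _ _) hm
  have hp5 : p ≤ 5 := by
    rcases hd with h | h
    · exact (Nat.le_of_dvd (by omega) h).trans hk5
    · exact (Nat.le_of_dvd (by omega) h).trans hl5
  have hp2 := hp.two_le
  have key : ∀ c : ℕ, Nat.lcm k l = p ^ c → ee p k l = 1 := by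
    intro c hc
    unfold ee
    rw [hc]
    simp only [hp.factorization_pow, Finsupp.single_eq_same]
    exact Nat.div_self (pow_pos hp.pos c)
  interval_cases k <;> interval_cases l <;> interval_cases p <;>
    first
    | (exfalso; revert hg; decide)
    | (exfalso; revert hd; decide)
    | (exfalso; revert hp; decide)
    | exact key 1 (by decide)
    | exact key 2 (by decide)

end Cfsg.Agent.H130.War
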