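import Mathlib.LinearAlgebra.Charpoly.Basic
import Mathlib.LinearAlgebra.Charpoly.ToMatrix
import Mathlib.LinearAlgebra.FiniteDimensional.Lemmas
import Mathlib.LinearAlgebra.Dimension.Constructions
import Mathlib.Tactic

/-!
# Two chains (S2453)

`charpoly_eq_of_kill` : the characteristic polynomial from a cyclic vector;
`chain` : `Z` with `Z w_i = w_{i+1}` (`i ≤ n`), `Z w_{n+1} = ev a + b y`, `Z y = ev c + d y`, `b ≠ 0` has characteristic
polynomial `(X - d) (X^{n+2} - a) - b c`, and `w_0` is cyclic.
-/

set_option autoImplicit false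

namespace Cfsg.Agent.H130.War

open Polynomial Module

variable {F V : Type*} [Field F] [AddCommGroup V] [Module F V]

theorem aeval_apply_eq {S : End F V} {v : V} {m : ℕ} {h : F[X]} (hd : h.natDegree < m) :
    aeval S h v = ∑ i : Fin m, h.coeff i • (S ^ (i : ℕ)) v := by
  rw [aeval_eq_sum_range' hd, LinearMap.sum_apply, ← Fin.sum_univ_eq_sum_range
    (fun i => (h.coeff i • S ^ i) v)]
  rfl

theorem charpoly_eq_of_kill [FiniteDimensional F V] {S : End F V} {v : V} {m : ℕ} (hm : finrank F V = m)
    (hli : LinearIndependent F fun i : Fin m => (S ^ (i : ℕ)) v) {χ : F[X]} (hχ : χ.Monic) (hd : χ.natDegree = m)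
    (h0 : aeval S χ v = 0) : LinearMap.charpoly S = χ := by
  by_contra hne
  have h1 : (LinearMap.charpoly S).Monic := LinearMap.charpoly_monic S
  have h2 : (LinearMap.charpoly S).natDegree = m := by rw [LinearMap.charpoly_natDegree, hm]
  have h3 : (LinearMap.charpoly S - χ).natDegree < m ∨ m = 0 := by
    rcases Nat.eq_zero_or_pos m with h | h
    · exact Or.inr h
    · left
      have h4 : (LinearMap.charpoly S - χ).degree < (LinearMap.charpoly S).degree := by
        apply Polynomial.degree_sub_lt_left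
        · rw [Polynomial.degree_eq_natDegree h1.ne_zero, Polynomial.degree_eq_natDegree hχ.ne_zero, h2, hd]
        · exact h1.ne_zero
        · rw [h1.leadingCoeff, hχ.leadingCoeff]
      rw [← h2]
      exact Polynomial.natDegree_lt_natDegree (sub_ne_zero.2 hne) h4
  rcases h3 with h3 | h3
  · have h5 : aeval S (LinearMap.charpoly S - χ) v = 0 := by
      rw [map_sub, LinearMap.aeval_self_charpoly, LinearMap.sub_apply, h0, LinearMap.zero_apply, sub_zero]
    rw [aeval_apply_eq h3] at h5
    have h6 := Fintype.linearIndependent_iff.1 hli _ h5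
    apply hne
    rw [← sub_eq_zero]
    ext i
    rw [coeff_zero]
    by_cases hi : i < m
    · exact h6 ⟨i, hi⟩
    · exact coeff_eq_zero_of_natDegree_lt (by omega)
  · subst h3
    apply hne
    rw [h1.natDegree_eq_zero.1 h2, hχ.natDegree_eq_zero.1 hd]

section Chain

variable {n : ℕ}

/-- the combination of the chain with the coefficients of `h` -/
noncomputable def ev (B : Fin (n + 3) → V) (h : F[X]) : V := ∑ i : Fin (n + 2), h.coeff i • B i.castSucc

theorem ev_add (B : Fin (n + 3) → V) (h h' : F[X]) : ev B (h + h') = ev B h + ev B h' := by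
  simp only [ev, coeff_add, add_smul, Finset.sum_add_distrib]

theorem ev_smul (B : Fin (n + 3) → V) (c : F) (h : F[X]) : ev B (C c * h) = c • ev B h := by
  simp only [ev, coeff_C_mul, mul_smul, Finset.smul_sum]

/-- the two chains -/
structure IsChain (B : Basis (Fin (n + 3)) F V) (Z : End F V) (a c : F[X]) (b d : F) : Prop where
  step : ∀ i : Fin (n + 1), Z (B i.castSucc.castSucc) = B i.succ.castSucc
  one : Z (B (Fin.last (n + 1)).castSucc) = ev B a + b • B (Fin.last (n + 2))
  two : Z (B (Fin.last (n + 2))) = ev B c + d • B (Fin.last (n + 2))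

variable {B : Basis (Fin (n + 3)) F V} {Z : End F V} {a c : F[X]} {b d : F}

theorem IsChain.pow (h : IsChain B Z a c b d) (i : ℕ) (hi : i < n + 2) :
    (Z ^ i) (B 0) = B (⟨i, hi⟩ : Fin (n + 2)).castSucc := by
  induction i with
  | zero => rw [pow_zero]; rfl
  | succ i ih =>
    rw [pow_succ', Module.End.mul_apply, ih (by omega)]
    exact h.step ⟨i, by omega⟩

theorem IsChain.aeval (h : IsChain B Z a c b d) {f : F[X]} (hf : f.natDegree < n + 2) :
    Polynomial.aeval Z f (B 0) = ev B f := by
  rw [aeval_apply_eq hf]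
  exact Finset.sum_congr rfl fun i _ => by rw [h.pow i i.2]

theorem IsChain.last (h : IsChain B Z a c b d) (ha : a.natDegree < n + 2) :
    Polynomial.aeval Z (X ^ (n + 2) - a) (B 0) = b • B (Fin.last (n + 2)) := by
  rw [map_sub, map_pow, aeval_X, LinearMap.sub_apply, h.aeval ha, pow_succ', Module.End.mul_apply,
    h.pow (n + 1) (by omega)]
  have h1 := h.one
  rw [show (⟨n + 1, by omega⟩ : Fin (n + 2)) = Fin.last (n + 1) from rfl, h1]
  abel

theorem IsChain.kill (h : IsChain B Z a c b d) (ha : a.natDegree < n + 2) (hc : c.natDegree < n + 2) :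
    Polynomial.aeval Z ((X - C d) * (X ^ (n + 2) - a) - C b * c) (B 0) = 0 := by
  rw [map_sub, map_mul, map_mul, LinearMap.sub_apply, Module.End.mul_apply, Module.End.mul_apply, h.last ha,
    h.aeval hc, map_sub, aeval_X, aeval_C, aeval_C, LinearMap.sub_apply, map_smul, h.two]
  simp only [Module.algebraMap_end_apply, smul_add, map_smul]
  rw [smul_comm b d]
  abel

theorem IsChain.li (h : IsChain B Z a c b d) (ha : a.natDegree < n + 2) (hb : b ≠ 0) :
    LinearIndependent F fun i : Fin (n + 3) => (Z ^ (i : ℕ)) (B 0) := by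
  rw [Fintype.linearIndependent_iff]
  intro g hg
  rw [Fin.sum_univ_castSucc] at hg
  have h1 : (Z ^ ((Fin.last (n + 2) : Fin (n + 3)) : ℕ)) (B 0) = ev B a + b • B (Fin.last (n + 2)) := by
    have h2 := h.last ha
    rw [map_sub, map_pow, aeval_X, LinearMap.sub_apply, h.aeval ha, sub_eq_iff_eq_add] at h2
    rw [add_comm (ev _ _)]
    exact h2
  have h3 : ∑ i : Fin (n + 2), g i.castSucc • (Z ^ ((i.castSucc : Fin (n + 3)) : ℕ)) (B 0) =
      ∑ i : Fin (n + 2), g i.castSucc • B i.castSucc :=
    Finset.sum_congr rfl fun i _ => by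
      rw [show ((i.castSucc : Fin (n + 3)) : ℕ) = (i : ℕ) from rfl, h.pow i i.2]
  rw [h3, h1, ev, smul_add, Finset.smul_sum, ← add_assoc, ← Finset.sum_add_distrib, smul_smul] at hg
  have h4 := Fintype.linearIndependent_iff.1 B.linearIndependent
    (fun j => Fin.lastCases (motive := fun _ => F) (g (Fin.last (n + 2)) * b)
      (fun i => g i.castSucc + g (Fin.last (n + 2)) * a.coeff i) j) (by
    rw [Fin.sum_univ_castSucc]
    simp only [Fin.lastCases_castSucc, Fin.lastCases_last]
    rw [← hg]
    congr 1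
    exact Finset.sum_congr rfl fun i _ => by rw [add_smul, smul_smul])
  have h5 : g (Fin.last (n + 2)) = 0 := by
    have := h4 (Fin.last (n + 2))
    simp only [Fin.lastCases_last] at this
    exact (mul_eq_zero.1 this).resolve_right hb
  intro i
  refine Fin.lastCases h5 (fun j => ?_) i
  have := h4 j.castSucc
  simp only [Fin.lastCases_castSucc] at this
  rw [h5, zero_mul, add_zero] at this
  exact this

theorem chi_aux (ha : a.natDegree < n + 2) : (X ^ (n + 2) - a).Monic ∧ (X ^ (n + 2) - a).natDegree = n + 2 := by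
  have h1 : (X ^ (n + 2) - a).natDegree = n + 2 := by
    rw [natDegree_sub_eq_left_of_natDegree_lt (by rw [natDegree_X_pow]; exact ha), natDegree_X_pow]
  refine ⟨?_, h1⟩
  rw [Monic, leadingCoeff, h1, coeff_sub, coeff_X_pow, if_pos rfl, coeff_eq_zero_of_natDegree_lt ha, sub_zero]

theorem chi_monic (ha : a.natDegree < n + 2) (hc : c.natDegree < n + 2) :
    ((X - C d) * (X ^ (n + 2) - a) - C b * c).Monic ∧
      ((X - C d) * (X ^ (n + 2) - a) - C b * c).natDegree = n + 3 := by
  obtain ⟨h1, h2⟩ := chi_aux ha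
  have h3 : ((X - C d) * (X ^ (n + 2) - a)).Monic := (monic_X_sub_C d).mul h1
  have h4 : ((X - C d) * (X ^ (n + 2) - a)).natDegree = n + 3 := by
    rw [(monic_X_sub_C d).natDegree_mul h1, natDegree_X_sub_C, h2]; omega
  have h5 : (C b * c).natDegree < n + 3 := lt_of_le_of_lt (natDegree_C_mul_le b c) (by omega)
  have h6 : ((X - C d) * (X ^ (n + 2) - a) - C b * c).natDegree = n + 3 := by
    rw [natDegree_sub_eq_left_of_natDegree_lt (by rw [h4]; exact h5), h4]
  refine ⟨?_, h6⟩
  rw [Monic, leadingCoeff, h6, coeff_sub, coeff_eq_zero_of_natDegree_lt h5, sub_zero]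
  have := h3
  rwa [Monic, leadingCoeff, h4] at this

/-- **The characteristic polynomial of two chains** -/
theorem IsChain.charpoly [FiniteDimensional F V] (h : IsChain B Z a c b d) (ha : a.natDegree < n + 2)
    (hc : c.natDegree < n + 2) (hb : b ≠ 0) : LinearMap.charpoly Z = (X - C d) * (X ^ (n + 2) - a) - C b * c :=
  charpoly_eq_of_kill (by rw [finrank_eq_card_basis B, Fintype.card_fin]) (h.li ha hb) (chi_monic ha hc).1
    (chi_monic ha hc).2 (h.kill ha hc)

/-- existence -/
theorem exists_chain (B : Basis (Fin (n + 3)) F V) (a c : F[X]) (b d : F) : ∃ Z : End F V, IsChain B Z a c b d := by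
  let f : Fin (n + 3) → V := fun j => Fin.lastCases (motive := fun _ => V) (ev B c + d • B (Fin.last (n + 2)))
    (fun i => Fin.lastCases (motive := fun _ => V) (ev B a + b • B (Fin.last (n + 2))) (fun i' => B i'.succ.castSucc) i) j
  refine ⟨B.constr F f, ⟨fun i => ?_, ?_, ?_⟩⟩
  · rw [B.constr_basis]
    simp only [f, Fin.lastCases_castSucc]
  · rw [B.constr_basis]
    simp only [f, Fin.lastCases_castSucc, Fin.lastCases_last]
  · rw [B.constr_basis]
    simp only [f, Fin.lastCases_last]

end Chain

end Cfsg.Agent.H130.War
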