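import Cfsg.Agent.H130.War.RankTwo

/-!
# `A - 1` of rank 2 in dimension 4 over the field with two elements (S2453)

`exists_rank_two_F2` : `p`, `g` monic of degree 4 with the same coefficient of `X ^ 2`, `p(0) = det A * g(0) ≠ 0`.
-/

set_option autoImplicit false
set_option linter.unusedSectionVars false

namespace Cfsg.Agent.H130.War

open Polynomial Module

variable {F V : Type*} [Field F] [AddCommGroup V] [Module F V]

section Pol

variable {p g : F[X]}

theorem aa_one (a₀ t : F) (τ : F) : (aa 1 a₀ t (fun _ : Fin 1 => τ)).coeff 1 = τ := aa_coeff_mid a₀ t _ 0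

theorem aa_two (a₀ t : F) (τ : F) : (aa 1 a₀ t (fun _ : Fin 1 => τ)).coeff 2 = t := aa_coeff_top a₀ t _

theorem cc_one (d : F) (a g : F[X]) : (cc 1 1 d a g).coeff 1 = - a.coeff 0 + d * a.coeff 1 - g.coeff 1 := by
  have h := congrArg (fun f : F[X] => f.coeff 1) (cc_mul (n := 1) (one_ne_zero (α := F)) d a g)
  have e : (X - C d) * (X ^ (1 + 2) - a) - g = X * (X ^ 3) - X * a - C d * X ^ 3 + C d * a - g := by ring
  rw [e] at h
  simp only [coeff_sub, coeff_add, coeff_C_mul, coeff_X_mul, coeff_X_pow, one_mul] at h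
  rw [h]
  norm_num

theorem cc_two (d : F) (a g : F[X]) : (cc 1 1 d a g).coeff 2 = - a.coeff 1 + d * a.coeff 2 - g.coeff 2 := by
  have h := congrArg (fun f : F[X] => f.coeff 2) (cc_mul (n := 1) (one_ne_zero (α := F)) d a g)
  have e : (X - C d) * (X ^ (1 + 2) - a) - g = X * (X ^ 3) - X * a - C d * X ^ 3 + C d * a - g := by ring
  rw [e] at h
  simp only [coeff_sub, coeff_add, coeff_C_mul, coeff_X_mul, coeff_X_pow, one_mul] at h
  rw [h]
  norm_num

theorem li_of_det {h₁ h₂ : F[X]} (h : h₁.coeff 1 * h₂.coeff 2 - h₁.coeff 2 * h₂.coeff 1 ≠ 0) :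
    LinearIndependent F ![fun i : Fin (1 + 1) => h₁.coeff ((i : ℕ) + 1),
      fun i : Fin (1 + 1) => h₂.coeff ((i : ℕ) + 1)] := by
  rw [LinearIndependent.pair_iff]
  intro r s e
  have h0 := congrFun e 0
  have h1 := congrFun e 1
  simp only [Pi.add_apply, Pi.smul_apply, smul_eq_mul, Pi.zero_apply, Fin.val_zero, Fin.val_one, zero_add,
    show (1 + 1 : ℕ) = 2 from rfl] at h0 h1
  have h2 : r * (h₁.coeff 1 * h₂.coeff 2 - h₁.coeff 2 * h₂.coeff 1) = 0 := by
    linear_combination h₂.coeff 2 * h0 - h₂.coeff 1 * h1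
  have h3 : s * (h₁.coeff 1 * h₂.coeff 2 - h₁.coeff 2 * h₂.coeff 1) = 0 := by
    linear_combination h₁.coeff 1 * h1 - h₁.coeff 2 * h0
  exact ⟨(mul_eq_zero.1 h2).resolve_right h, (mul_eq_zero.1 h3).resolve_right h⟩

/-- the determinant for `b = b' = 1` -/
theorem li_cc {a₀ t σ a₀' t' τ d d' : F}
    (h : (τ - σ) * ((- τ + d' * t' - p.coeff 2) - (- σ + d * t - g.coeff 2)) -
      (t' - t) * ((- a₀' + d' * τ - p.coeff 1) - (- a₀ + d * σ - g.coeff 1)) ≠ 0) :
    LinearIndependent F ![fun i : Fin (1 + 1) =>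
        (aa 1 a₀' t' (fun _ : Fin 1 => τ) - aa 1 a₀ t (fun _ : Fin 1 => σ)).coeff ((i : ℕ) + 1),
      fun i : Fin (1 + 1) => (cc 1 1 d' (aa 1 a₀' t' (fun _ : Fin 1 => τ)) p -
        cc 1 1 d (aa 1 a₀ t (fun _ : Fin 1 => σ)) g).coeff ((i : ℕ) + 1)] := by
  apply li_of_det
  simp only [coeff_sub, cc_one, cc_two, aa_one, aa_two, aa_coeff_zero]
  exact h

end Pol

section Main

variable [FiniteDimensional F V]

/-- the core with `n = 1`, `b = b' = 1` -/
theorem core_one (hV : finrank F V = 4) {A : End F V} {W : Submodule F V} (hWd : finrank F W = 2)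
    (hWA : ∀ w ∈ W, A w = w) {x y : V} (hindW : ∀ s t : F, s • x + t • y ∈ W → s = 0 ∧ t = 0) {α₁ α₂ α₃ α₄ : F}
    {ω₀ ω₁ : V} (hω₀ : ω₀ ∈ W) (hω₁ : ω₁ ∈ W) (hω : ∀ r s : F, r • ω₀ + s • ω₁ = 0 → r = 0 ∧ s = 0)
    (hAx : A x = (1 + α₁) • x + ω₀ + α₂ • y) (hAy : A y = α₃ • x + ω₁ + (1 + α₄) • y) {p g : F[X]}
    (hp : p.Monic) (hpd : p.natDegree = 4) (hg : g.Monic) (hgd : g.natDegree = 4)
    (hg0 : g.coeff 0 ≠ 0) (hdet : p.coeff 0 = LinearMap.det A * g.coeff 0) {a₀ a₀' d d' σ τ t t' : F}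
    (ht : t = - g.coeff 3 - d) (ht' : t' = - p.coeff 3 - d') (eb : a₀ * α₂ + (1 + α₄) = 1)
    (ea : a₀' = a₀ * (1 + α₁) + α₃) (ed : d' = (d * a₀ - g.coeff 0) * α₂ + d * (1 + α₄))
    (h : (τ - σ) * ((- τ + d' * t' - p.coeff 2) - (- σ + d * t - g.coeff 2)) -
      (t' - t) * ((- a₀' + d' * τ - p.coeff 1) - (- a₀ + d * σ - g.coeff 1)) ≠ 0) :
    ∃ Z : End F V, LinearMap.charpoly (A * Z) = p ∧ LinearMap.charpoly Z = g := by
  have ha := aa_degree (n := 1) a₀ t (fun _ => σ)
  have ha' := aa_degree (n := 1) a₀' t' (fun _ => τ)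
  refine core (n := 1) hV hWd hWA hindW hω₀ hω₁ hω hAx hAy hg0 hdet (one_ne_zero (α := F)) (one_ne_zero (α := F))
    ha (c := cc 1 1 d (aa 1 a₀ t (fun _ => σ)) g) (cc_degree hg hgd ha (by rw [aa_coeff_top, ht]))
    ha' (c' := cc 1 1 d' (aa 1 a₀' t' (fun _ => τ)) p) (cc_degree hp hpd ha' (by rw [aa_coeff_top, ht']))
    (cc_char one_ne_zero d _ g) (cc_char one_ne_zero d' _ p) ?_ ?_ ?_ (li_cc h)
  · rw [aa_coeff_zero, one_mul, eb]
  · rw [aa_coeff_zero, aa_coeff_zero, one_mul, ea]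
  · rw [cc_coeff_zero, aa_coeff_zero, inv_one, one_mul, ed]

/-- first case: `R + W ≠ V` (any field) -/
theorem case_one (hV : finrank F V = 4) {A N : End F V} (hAN : ∀ v, A v = v + N v) {W R : Submodule F V}
    (hW : W = LinearMap.ker N) (hR : R = LinearMap.range N) (hWd : finrank F W = 2) (hRd : finrank F R = 2)
    (hne : R ⊔ W ≠ ⊤) {p g : F[X]}
    (hp : p.Monic) (hpd : p.natDegree = 4) (hg : g.Monic) (hgd : g.natDegree = 4)
    (hg0 : g.coeff 0 ≠ 0) (hdet : p.coeff 0 = LinearMap.det A * g.coeff 0) (h2 : p.coeff 2 = g.coeff 2) :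
    ∃ Z : End F V, LinearMap.charpoly (A * Z) = p ∧ LinearMap.charpoly Z = g := by
  have hs : ∀ (P : Submodule F V) (x : V), finrank F P < 3 → P ⊔ Submodule.span F {x} ≠ ⊤ := by
    intro P x hP h
    have h1 := Submodule.finrank_add_le_finrank_add_finrank P (Submodule.span F {x})
    rw [h, finrank_top] at h1
    have h2 : finrank F (Submodule.span F {x}) ≤ 1 := le_trans (finrank_span_le_card ({x} : Set V)) (by simp)
    omega
  have hlt : ∀ (P : Submodule F V) (x : V), x ∉ P → finrank F P < finrank F ↥(P ⊔ Submodule.span F {x}) := by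
    intro P x hx
    apply Submodule.finrank_lt_finrank_of_lt
    refine lt_of_le_of_ne le_sup_left fun h => hx ?_
    rw [h]
    exact Submodule.mem_sup_right (Submodule.mem_span_singleton_self x)
  -- `x`
  obtain ⟨x, hxW, hxR, hRle⟩ : ∃ x, x ∉ W ∧ x ∉ R ∧ R ≤ W ⊔ Submodule.span F {x} := by
    by_cases hRW : R ≤ W
    · have e : R = W := Submodule.eq_of_le_of_finrank_le hRW (by omega)
      obtain ⟨x, hx⟩ : ∃ x, x ∉ W := by
        by_contra h
        push Not at h
        have : W = ⊤ := eq_top_iff.2 fun v _ => h v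
        rw [this, finrank_top] at hWd
        omega
      exact ⟨x, hx, by rw [e]; exact hx, hRW.trans le_sup_left⟩
    · have hWR : ¬ W ≤ R := fun h => hRW (le_of_eq (Submodule.eq_of_le_of_finrank_le h (by omega)).symm)
      obtain ⟨r, hr, hrW⟩ := SetLike.not_le_iff_exists.1 hRW
      obtain ⟨w, hw, hwR⟩ := SetLike.not_le_iff_exists.1 hWR
      have hx1 : r + w ∉ W := fun h => hrW (by have := W.sub_mem h hw; rwa [add_sub_cancel_right] at this)
      have hx2 : r + w ∉ R := fun h => hwR (by have := R.sub_mem h hr; rwa [add_sub_cancel_left] at this)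
      refine ⟨r + w, hx1, hx2, ?_⟩
      have h1 : W ⊔ Submodule.span F {r + w} ≤ R ⊔ W := sup_le le_sup_right (by
        rw [Submodule.span_le, Set.singleton_subset_iff]
        exact Submodule.add_mem_sup hr hw)
      have h3 := hlt W _ hx1
      have h4 : finrank F ↥(R ⊔ W) < 4 := by
        rw [← hV]
        exact Submodule.finrank_lt hne
      have h5 : W ⊔ Submodule.span F {r + w} = R ⊔ W := Submodule.eq_of_le_of_finrank_le h1 (by omega)
      rw [h5]
      exact le_sup_left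
  obtain ⟨y, hy⟩ : ∃ y, y ∉ W ⊔ Submodule.span F {x} := by
    by_contra h
    push Not at h
    exact hs W x (by omega) (eq_top_iff.2 fun v _ => h v)
  have hyR : y ∉ R ⊔ Submodule.span F {x} := fun h => hy (sup_le hRle le_sup_right h)
  have hind : ∀ P : Submodule F V, x ∉ P → y ∉ P ⊔ Submodule.span F {x} → ∀ s t : F, s • x + t • y ∈ P → s = 0 ∧ t = 0 := by
    intro P hx hy s t h
    have ht : t = 0 := by
      by_contra ht
      apply hy
      have h1 : y = t⁻¹ • (s • x + t • y) + (-(t⁻¹ * s)) • x := by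
        rw [smul_add, smul_smul, smul_smul, inv_mul_cancel₀ ht, one_smul, neg_smul]; abel
      rw [h1]
      exact Submodule.add_mem_sup (P.smul_mem _ h) (Submodule.smul_mem _ _ (Submodule.mem_span_singleton_self x))
    refine ⟨?_, ht⟩
    by_contra hs0
    apply hx
    rw [ht, zero_smul, add_zero] at h
    have h1 : x = s⁻¹ • (s • x) := by rw [smul_smul, inv_mul_cancel₀ hs0, one_smul]
    rw [h1]
    exact P.smul_mem _ h
  have hindW := hind W hxW hy
  have hindR := hind R hxR hyR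
  have hco : ∀ v, ∃ s : F, ∃ w ∈ W, N v = s • x + w := by
    intro v
    have h1 : N v ∈ W ⊔ Submodule.span F {x} := hRle (by rw [hR]; exact ⟨v, rfl⟩)
    obtain ⟨w, hw, z, hz, e⟩ := Submodule.mem_sup.1 h1
    obtain ⟨s, rfl⟩ := Submodule.mem_span_singleton.1 hz
    exact ⟨s, w, hw, by rw [← e, add_comm]⟩
  obtain ⟨α₁, ω₀, hω₀, hNx⟩ := hco x
  obtain ⟨α₃, ω₁, hω₁, hNy⟩ := hco y
  have hNW : ∀ w ∈ W, N w = 0 := fun w hw => by rw [hW] at hw; exact hw
  have hω : ∀ r s : F, r • ω₀ + s • ω₁ = 0 → r = 0 ∧ s = 0 := by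
    intro r s h
    have h1 : N (r • x + s • y) = (r * α₁ + s * α₃) • x + (0 : F) • y := by
      rw [map_add, map_smul, map_smul, hNx, hNy]
      calc r • (α₁ • x + ω₀) + s • (α₃ • x + ω₁)
          = (r • ω₀ + s • ω₁) + ((r * α₁ + s * α₃) • x + (0 : F) • y) := by module
        _ = _ := by rw [h, zero_add]
    have h2 : N (r • x + s • y) ∈ R := by rw [hR]; exact ⟨_, rfl⟩
    have h3 := h2
    rw [h1] at h3
    obtain ⟨h4, -⟩ := hindR _ _ h3
    have h6 : r • x + s • y ∈ W := by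
      rw [hW, LinearMap.mem_ker, h1, h4, zero_smul, zero_smul, add_zero]
    exact hindW _ _ h6
  have hAx : A x = (1 + α₁) • x + ω₀ + (0 : F) • y := by rw [hAN, hNx]; module
  have hAy : A y = α₃ • x + ω₁ + (1 + (0 : F)) • y := by rw [hAN, hNy]; module
  have hWA : ∀ w ∈ W, A w = w := fun w hw => by rw [hAN, hNW w hw, add_zero]
  obtain ⟨K, hK⟩ : ∃ K : F, K = (p.coeff 3 - g.coeff 3) * (g.coeff 1 - p.coeff 1 - α₃) := ⟨_, rfl⟩
  obtain ⟨τ, hτ⟩ : ∃ τ : F, - τ * τ + K ≠ 0 := by
    by_cases h : K = 0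
    · exact ⟨1, by rw [h, add_zero, mul_one]; exact neg_ne_zero.2 one_ne_zero⟩
    · exact ⟨0, by rw [mul_zero, zero_add]; exact h⟩
  refine core_one hV hWd hWA hindW hω₀ hω₁ hω hAx hAy hp hpd hg hgd hg0 hdet (a₀ := 0) (a₀' := α₃) (d := 0) (d' := 0)
    (σ := 0) (τ := τ) rfl rfl (by ring) (by ring) (by ring) ?_
  intro h
  apply hτ
  rw [← h, hK, h2]
  ring

/-- second case: `R + W = V`, two elements -/
theorem case_two (hF : ∀ u : F, u = 0 ∨ u = 1) (hV : finrank F V = 4) {A N : End F V} (hAN : ∀ v, A v = v + N v)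
    (hA : LinearMap.det A ≠ 0) {W R : Submodule F V}
    (hW : W = LinearMap.ker N) (hR : R = LinearMap.range N) (hWd : finrank F W = 2) (hRd : finrank F R = 2)
    (htop : R ⊔ W = ⊤) {p g : F[X]}
    (hp : p.Monic) (hpd : p.natDegree = 4) (hg : g.Monic) (hgd : g.natDegree = 4)
    (hg0 : g.coeff 0 ≠ 0) (hdet : p.coeff 0 = LinearMap.det A * g.coeff 0) (h2 : p.coeff 2 = g.coeff 2) :
    ∃ Z : End F V, LinearMap.charpoly (A * Z) = p ∧ LinearMap.charpoly Z = g := by
  have htwo : (1 : F) + 1 = 0 := by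
    rcases hF (1 + 1) with h | h
    · exact h
    · exfalso
      have : (1 : F) = 0 := by linear_combination h
      exact one_ne_zero this
  have hneg : ∀ u : F, -u = u := fun u => by linear_combination -(u * htwo)
  have hv2 : ∀ v : V, v + v = 0 := fun v => by
    have : v + v = (1 + 1 : F) • v := by rw [add_smul, one_smul]
    rw [this, htwo, zero_smul]
  have hinf : R ⊓ W = ⊥ := by
    have h1 := Submodule.finrank_sup_add_finrank_inf_eq R W
    rw [htop, finrank_top, hV, hRd, hWd] at h1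
    exact Submodule.finrank_eq_zero.1 (by omega)
  have hA0 : ∀ v, A v = 0 → v = 0 := fun v hv => by
    have := (LinearMap.equivOfDetNeZero A hA).injective
    exact this (by rw [map_zero]; exact hv)
  have hRW0 : ∀ v ∈ R, N v = 0 → v = 0 := fun v hv h => by
    have : v ∈ R ⊓ W := ⟨hv, by rw [hW]; exact h⟩
    rwa [hinf, Submodule.mem_bot] at this
  have hNR : ∀ v, N v ∈ R := fun v => by rw [hR]; exact ⟨v, rfl⟩
  obtain ⟨r, hr, hr0⟩ : ∃ r ∈ R, r ≠ 0 := by
    apply Submodule.exists_mem_ne_zero_of_ne_bot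
    intro h
    rw [h, finrank_bot] at hRd
    omega
  have hNr0 : N r ≠ 0 := fun h => hr0 (hRW0 r hr h)
  have hfix : ∀ v ∈ R, v ≠ 0 → N v ≠ v := fun v _ hv0 h => hv0 (hA0 v (by rw [hAN, h, hv2]))
  have hsum : ∀ u v : V, u + v = 0 → u = v := fun u v h => by
    have : u = u + v + v := by rw [add_assoc, hv2, add_zero]
    rw [this, h, zero_add]
  have hNN : N (N r) = r + N r := by
    -- `R` is spanned by `r` and `N r`
    have hli : LinearIndependent F ![r, N r] := by
      rw [LinearIndependent.pair_iff]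
      intro s t h
      rcases hF s with rfl | rfl <;> rcases hF t with rfl | rfl
      · exact ⟨rfl, rfl⟩
      · rw [zero_smul, one_smul, zero_add] at h; exact absurd h hNr0
      · rw [zero_smul, one_smul, add_zero] at h; exact absurd h hr0
      · rw [one_smul, one_smul] at h; exact absurd (hsum _ _ h).symm (hfix r hr hr0)
    have hspan : Submodule.span F {r, N r} = R := by
      apply Submodule.eq_of_le_of_finrank_le
      · rw [Submodule.span_le]
        intro v hv
        rcases hv with rfl | rfl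
        · exact hr
        · exact hNR _
      · have h1 := finrank_span_eq_card hli
        rw [Matrix.range_cons, Matrix.range_cons, Matrix.range_empty, Set.union_empty, Fintype.card_fin] at h1
        rw [hRd]
        exact le_of_eq h1.symm
    have hmem : N (N r) ∈ Submodule.span F {r, N r} := by rw [hspan]; exact hNR _
    obtain ⟨s, t, e⟩ := Submodule.mem_span_pair.1 hmem
    have hNNr0 : N (N r) ≠ 0 := fun h => hNr0 (hRW0 _ (hNR r) h)
    rcases hF s with rfl | rfl <;> rcases hF t with rfl | rfl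
    · rw [zero_smul, zero_smul, add_zero] at e; exact absurd e.symm hNNr0
    · rw [zero_smul, one_smul, zero_add] at e
      exact absurd e.symm (hfix _ (hNR r) hNr0)
    · rw [zero_smul, one_smul, add_zero] at e
      exfalso
      have h3 : N (r + N r) = r + N r := by rw [map_add, ← e, add_comm]
      have h4 : r + N r ∈ R := R.add_mem hr (hNR r)
      exact hfix _ h4 (fun h => hfix r hr hr0 (hsum _ _ h).symm) h3
    · rw [one_smul, one_smul] at e; exact e.symm
  let β₀ := Module.finBasisOfFinrankEq F W hWd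
  obtain ⟨w, hw⟩ : ∃ w : V, w = (β₀ 0 : V) := ⟨_, rfl⟩
  obtain ⟨w', hw'⟩ : ∃ w' : V, w' = (β₀ 1 : V) := ⟨_, rfl⟩
  have hwW : w ∈ W := by rw [hw]; exact (β₀ 0).2
  have hw'W : w' ∈ W := by rw [hw']; exact (β₀ 1).2
  have hwli : ∀ s t : F, s • w + t • w' = 0 → s = 0 ∧ t = 0 := by
    intro s t h
    have h1 := Fintype.linearIndependent_iff.1 β₀.linearIndependent ![s, t] (by
      apply Subtype.ext
      rw [Fin.sum_univ_two, Submodule.coe_add, Submodule.coe_smul, Submodule.coe_smul, ← hw, ← hw']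
      exact h)
    exact ⟨h1 0, h1 1⟩
  have hNW : ∀ w ∈ W, N w = 0 := fun w hw => by rw [hW] at hw; exact hw
  have hWA : ∀ w ∈ W, A w = w := fun w hw => by rw [hAN, hNW w hw, add_zero]
  have hAx : A (r + w) = (1 + (1 : F)) • (r + w) + (w + w') + (1 : F) • (r + N r + w') := by
    rw [map_add, hWA w hwW, hAN, htwo, zero_smul, one_smul, zero_add]
    calc r + N r + w = r + N r + w + (w' + w') := by rw [hv2, add_zero]
      _ = _ := by abel
  have hAy : A (r + N r + w') = (1 : F) • (r + w) + w + (1 + (0 : F)) • (r + N r + w') := by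
    rw [map_add, hWA w' hw'W, hAN, map_add, hNN, add_zero, one_smul, one_smul]
    calc r + N r + (N r + (r + N r)) + w' = (r + r) + (N r + N r) + N r + w' := by abel
      _ = N r + w' := by rw [hv2, hv2, zero_add, zero_add]
      _ = (r + r) + (w + w) + N r + w' := by rw [hv2, hv2, zero_add, zero_add]
      _ = _ := by abel
  have hindW : ∀ s t : F, s • (r + w) + t • (r + N r + w') ∈ W → s = 0 ∧ t = 0 := by
    intro s t h
    have h1 : s • r + t • (r + N r) ∈ W := by
      have : s • r + t • (r + N r) = (s • (r + w) + t • (r + N r + w')) - (s • w + t • w') := by module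
      rw [this]
      exact W.sub_mem h (W.add_mem (W.smul_mem _ hwW) (W.smul_mem _ hw'W))
    have h3 : s • r + t • (r + N r) ∈ R := R.add_mem (R.smul_mem _ hr) (R.smul_mem _ (R.add_mem hr (hNR r)))
    have h4 : s • r + t • (r + N r) = 0 := by
      have : s • r + t • (r + N r) ∈ R ⊓ W := ⟨h3, h1⟩
      rwa [hinf, Submodule.mem_bot] at this
    rcases hF s with rfl | rfl <;> rcases hF t with rfl | rfl
    · exact ⟨rfl, rfl⟩
    · rw [zero_smul, one_smul, zero_add] at h4; exact absurd (hsum _ _ h4).symm (hfix r hr hr0)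
    · rw [zero_smul, one_smul, add_zero] at h4; exact absurd h4 hr0
    · rw [one_smul, one_smul, ← add_assoc, hv2, zero_add] at h4; exact absurd h4 hNr0
  have hω : ∀ u v : F, u • (w + w') + v • w = 0 → u = 0 ∧ v = 0 := by
    intro u v h
    have h1 : (u + v) • w + u • w' = 0 := by rw [← h]; module
    obtain ⟨h3, h4⟩ := hwli _ _ h1
    rw [h4, zero_add] at h3
    exact ⟨h4, h3⟩
  have hg1 : g.coeff 0 = 1 := (hF _).resolve_left hg0
  by_cases h3 : g.coeff 3 = p.coeff 3
  · refine core_one hV hWd hWA hindW (W.add_mem hwW hw'W) hwW hω hAx hAy hp hpd hg hgd hg0 hdet (a₀ := 0) (a₀' := 1)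
      (d := 0) (d' := 1) (σ := p.coeff 1 - g.coeff 1) (τ := p.coeff 1 - g.coeff 1) rfl rfl (by ring) (by ring)
      (by rw [hg1]; linear_combination htwo) ?_
    have : (p.coeff 1 - g.coeff 1 - (p.coeff 1 - g.coeff 1)) * ((-(p.coeff 1 - g.coeff 1) + 1 * (-p.coeff 3 - 1) -
        p.coeff 2) - (-(p.coeff 1 - g.coeff 1) + 0 * (-g.coeff 3 - 0) - g.coeff 2)) -
        ((-p.coeff 3 - 1) - (-g.coeff 3 - 0)) * ((-1 + 1 * (p.coeff 1 - g.coeff 1) - p.coeff 1) -
          (-0 + 0 * (p.coeff 1 - g.coeff 1) - g.coeff 1)) = -1 := by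
      rw [h3]; ring
    rw [this]
    exact neg_ne_zero.2 one_ne_zero
  · have hcase : ∃ d d' : F, d' = 1 + d ∧ g.coeff 3 = d ∧ p.coeff 3 = d' := by
      rcases hF (g.coeff 3) with h | h <;> rcases hF (p.coeff 3) with h' | h'
      · exact absurd (h.trans h'.symm) h3
      · exact ⟨0, 1, by ring, h, h'⟩
      · exact ⟨1, 0, by rw [htwo], h, h'⟩
      · exact absurd (h.trans h'.symm) h3
    obtain ⟨d, d', hd, hgd3, hpd3⟩ := hcase
    refine core_one hV hWd hWA hindW (W.add_mem hwW hw'W) hwW hω hAx hAy hp hpd hg hgd hg0 hdet (a₀ := 0) (a₀' := 1)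
      (d := d) (d' := d') (σ := 0) (τ := 1) (t := 0) (t' := 0)
      (by rw [hgd3]; linear_combination d * htwo) (by rw [hpd3]; linear_combination d' * htwo) (by ring) (by ring)
      (by rw [hg1, hd]; linear_combination htwo) ?_
    have : ((1 : F) - 0) * ((-1 + d' * 0 - p.coeff 2) - (-0 + d * 0 - g.coeff 2)) -
        (0 - 0) * ((-1 + d' * 1 - p.coeff 1) - (-0 + d * 0 - g.coeff 1)) = -1 := by
      rw [h2]; ring
    rw [this]
    exact neg_ne_zero.2 one_ne_zero

/-- **dimension 4, two elements** -/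
theorem exists_rank_two_F2 (hF : ∀ u : F, u = 0 ∨ u = 1) (hV : finrank F V = 4) {A : End F V}
    (hA : LinearMap.det A ≠ 0) (hr : finrank F (LinearMap.range (A - 1)) = 2) {p g : F[X]}
    (hp : p.Monic) (hpd : p.natDegree = 4) (hg : g.Monic) (hgd : g.natDegree = 4)
    (hg0 : g.coeff 0 ≠ 0) (hdet : p.coeff 0 = LinearMap.det A * g.coeff 0) (h2 : p.coeff 2 = g.coeff 2) :
    ∃ Z : End F V, LinearMap.charpoly (A * Z) = p ∧ LinearMap.charpoly Z = g := by
  obtain ⟨N, hN⟩ : ∃ N, N = A - 1 := ⟨_, rfl⟩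
  have hAN : ∀ v, A v = v + N v := fun v => by rw [hN, LinearMap.sub_apply, Module.End.one_apply]; abel
  rw [← hN] at hr
  have hWd : finrank F (LinearMap.ker N) = 2 := by
    have := LinearMap.finrank_range_add_finrank_ker N
    omega
  by_cases h : LinearMap.range N ⊔ LinearMap.ker N = ⊤
  · exact case_two hF hV hAN hA rfl rfl hWd hr h hp hpd hg hgd hg0 hdet h2
  · exact case_one hV hAN rfl rfl hWd hr h hp hpd hg hgd hg0 hdet h2

end Main

end Cfsg.Agent.H130.War
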