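import Cfsg.Agent.H130.War.RankOne
import Cfsg.Agent.H130.War.RankTwoF2
import Mathlib.LinearAlgebra.Matrix.Charpoly.Coeff
import Mathlib.LinearAlgebra.Matrix.Rank

/-!
# `A - c` of rank 1 or 2: products with given characteristic polynomials (S2453)

`exists_mul_rank` (`m ≥ 5`, `F` finite, rank ≤ 2), `exists_mul_rank_one` (`m ≥ 2`, `F` any field, rank 1), and the forms for
linear maps `exists_rank_le_two`, `exists_rank_le_one`.
-/

set_option autoImplicit false
set_option linter.unusedSectionVars false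

namespace Cfsg.Agent.H130.War

open Polynomial Module

set_option linter.unusedSimpArgs false

section Scale

variable {F : Type*} [Field F]

theorem Mat.charpoly_smul {ι : Type*} [Fintype ι] [DecidableEq ι] {c : F} (hc : c ≠ 0) (M : Matrix ι ι F) :
    (c • M).charpoly = C (c ^ Fintype.card ι) * M.charpoly.comp (C c⁻¹ * X) := by
  have h1 : Matrix.charmatrix (c • M) = C c • (Matrix.charmatrix M).map (Polynomial.compRingHom (C c⁻¹ * X : F[X])) := by
    ext i j : 1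
    by_cases hij : i = j
    · subst hij
      simp only [Matrix.charmatrix_apply_eq, Matrix.smul_apply, Matrix.map_apply, map_sub, coe_compRingHom_apply, X_comp,
        C_comp, smul_eq_mul, C_mul, mul_sub, ← mul_assoc, ← C_mul, mul_inv_cancel₀ hc, C_1, one_mul]
    · simp only [Matrix.charmatrix_apply_ne _ _ _ hij, Matrix.smul_apply, Matrix.map_apply, map_neg, coe_compRingHom_apply,
        C_comp, smul_eq_mul, C_mul, mul_neg]
  rw [Matrix.charpoly, h1, Matrix.det_smul, ← RingHom.mapMatrix_apply, ← RingHom.map_det, C_pow]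
  rfl

/-- `c⁻ᵐ p(c x)` -/
noncomputable def sc (m : ℕ) (c : F) (p : F[X]) : F[X] := C (c⁻¹ ^ m) * p.comp (C c * X)

theorem sc_coeff (m : ℕ) (c : F) (p : F[X]) (i : ℕ) : (sc m c p).coeff i = c⁻¹ ^ m * (c ^ i * p.coeff i) := by
  rw [sc, coeff_C_mul, comp_C_mul_X_coeff]; ring

theorem sc_monic {m : ℕ} {c : F} (hc : c ≠ 0) {p : F[X]} (hp : p.Monic) (hd : p.natDegree = m) :
    (sc m c p).Monic ∧ (sc m c p).natDegree = m := by
  have h1 : (sc m c p).coeff m = 1 := by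
    rw [sc_coeff]
    have : p.coeff m = 1 := by rwa [Monic, leadingCoeff, hd] at hp
    rw [this, mul_one, inv_pow, inv_mul_cancel₀ (pow_ne_zero _ hc)]
  have h2 : (sc m c p).natDegree ≤ m := by
    rw [natDegree_le_iff_coeff_eq_zero]
    intro N hN
    rw [sc_coeff, coeff_eq_zero_of_natDegree_lt (by omega), mul_zero, mul_zero]
  exact ⟨monic_of_natDegree_le_of_coeff_eq_one m h2 h1, natDegree_eq_of_le_of_coeff_ne_zero h2 (by rw [h1]; exact one_ne_zero)⟩

theorem sc_comp {m : ℕ} {c : F} (hc : c ≠ 0) (p : F[X]) : C (c ^ m) * (sc m c p).comp (C c⁻¹ * X) = p := by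
  rw [sc, mul_comp, C_comp, ← mul_assoc, ← C_mul, ← mul_pow, mul_inv_cancel₀ hc, one_pow, C_1, one_mul, comp_assoc,
    mul_comp, C_comp, X_comp, ← mul_assoc, ← C_mul, mul_inv_cancel₀ hc, C_1, one_mul, comp_X]

variable {V : Type*} [AddCommGroup V] [Module F V] [FiniteDimensional F V]

theorem charpoly_smul {c : F} (hc : c ≠ 0) (f : End F V) :
    LinearMap.charpoly (c • f) = C (c ^ finrank F V) * (LinearMap.charpoly f).comp (C c⁻¹ * X) := by
  let b := Module.finBasis F V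
  rw [← LinearMap.charpoly_toMatrix (c • f) b, ← LinearMap.charpoly_toMatrix f b, map_smul, Mat.charpoly_smul hc,
    Fintype.card_fin]

/-- from `1` to the scalar `c` -/
theorem of_scale {m : ℕ} (hV : finrank F V = m) {A : End F V} {c : F} (hc : c ≠ 0) {p g : F[X]}
    (h : ∃ Z : End F V, LinearMap.charpoly ((c⁻¹ • A) * Z) = sc m c p ∧ LinearMap.charpoly Z = g) :
    ∃ Z : End F V, LinearMap.charpoly (A * Z) = p ∧ LinearMap.charpoly Z = g := by
  obtain ⟨Z, h1, h2⟩ := h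
  refine ⟨Z, ?_, h2⟩
  have h3 : A * Z = c • ((c⁻¹ • A) * Z) := by rw [smul_mul_assoc, smul_smul, mul_inv_cancel₀ hc, one_smul]
  rw [h3, charpoly_smul hc, h1, hV, sc_comp hc]

theorem sc_det {m : ℕ} (hV : finrank F V = m) {A : End F V} {c : F} {p g : F[X]}
    (hdet : p.coeff 0 = LinearMap.det A * g.coeff 0) :
    (sc m c p).coeff 0 = LinearMap.det (c⁻¹ • A) * g.coeff 0 := by
  rw [sc_coeff, LinearMap.det_smul, hV, pow_zero, one_mul, hdet]; ring

theorem sc_ne {m : ℕ} {c : F} (hc : c ≠ 0) {p g : F[X]} (hne : p ≠ C (c ^ m) * g.comp (C c⁻¹ * X)) : sc m c p ≠ g := by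
  rintro rfl
  exact hne (sc_comp hc p).symm

theorem range_scale {A : End F V} {c : F} (hc : c ≠ 0) :
    LinearMap.range (c⁻¹ • A - 1) = LinearMap.range (A - c • (1 : End F V)) := by
  have h1 : c⁻¹ • A - 1 = c⁻¹ • (A - c • (1 : End F V)) := by
    rw [smul_sub, smul_smul, inv_mul_cancel₀ hc, one_smul]
  rw [h1, LinearMap.range_smul _ _ (inv_ne_zero hc)]

/-- **`A - c` of rank 1** -/
theorem exists_rank_le_one {m : ℕ} (hm : 2 ≤ m) (hV : finrank F V = m) {A : End F V} {c : F} (hc : c ≠ 0)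
    (hr : finrank F (LinearMap.range (A - c • (1 : End F V))) = 1)
    {p g : F[X]} (hp : p.Monic) (hpd : p.natDegree = m) (hg : g.Monic) (hgd : g.natDegree = m) (hg0 : g.coeff 0 ≠ 0)
    (hdet : p.coeff 0 = LinearMap.det A * g.coeff 0) (hne : p ≠ C (c ^ m) * g.comp (C c⁻¹ * X)) :
    ∃ Z : End F V, LinearMap.charpoly (A * Z) = p ∧ LinearMap.charpoly Z = g := by
  obtain ⟨n, rfl⟩ : ∃ n, m = n + 1 := ⟨m - 1, by omega⟩
  obtain ⟨h1, h2⟩ := sc_monic hc hp hpd
  exact of_scale hV hc (exists_rank_one (by omega) hV (by rw [range_scale hc, hr]) h1 h2 hg hgd hg0 (sc_det hV hdet)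
    (sc_ne hc hne))

/-- **`A - c` of rank 1 or 2** -/
theorem exists_rank_le_two' [Finite F] {m : ℕ} (hm : 5 ≤ m ∨ (m = 4 ∧ 3 ≤ Nat.card F)) (hV : finrank F V = m) {A : End F V} {c : F} (hc : c ≠ 0)
    (hr : finrank F (LinearMap.range (A - c • (1 : End F V))) ≤ 2) (hA : A ≠ c • (1 : End F V))
    {p g : F[X]} (hp : p.Monic) (hpd : p.natDegree = m) (hp0 : p.coeff 0 ≠ 0)
    (hg : g.Monic) (hgd : g.natDegree = m) (hg0 : g.coeff 0 ≠ 0)
    (hdet : p.coeff 0 = LinearMap.det A * g.coeff 0) (hne : p ≠ C (c ^ m) * g.comp (C c⁻¹ * X)) :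
    ∃ Z : End F V, LinearMap.charpoly (A * Z) = p ∧ LinearMap.charpoly Z = g := by
  have h0 : finrank F (LinearMap.range (A - c • (1 : End F V))) ≠ 0 := by
    intro h
    rw [Submodule.finrank_eq_zero, LinearMap.range_eq_bot, sub_eq_zero] at h
    exact hA h
  by_cases h1 : finrank F (LinearMap.range (A - c • (1 : End F V))) = 1
  · exact exists_rank_le_one (by omega) hV hc h1 hp hpd hg hgd hg0 hdet hne
  · obtain ⟨n, rfl⟩ : ∃ n, m = n + 3 := ⟨m - 3, by omega⟩
    obtain ⟨h2, h3⟩ := sc_monic hc hp hpd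
    refine of_scale hV hc (exists_rank_two (n := n) (hm.imp (fun h => by omega) (fun h => ⟨by omega, h.2⟩)) hV ?_ (by rw [range_scale hc]; omega) h2 h3 hg hgd hg0
      (sc_det hV hdet))
    rw [LinearMap.det_smul]
    refine mul_ne_zero (pow_ne_zero _ (inv_ne_zero hc)) fun h => hp0 ?_
    rw [hdet, h, zero_mul]

/-- **`A - c` of rank 1 or 2** -/
theorem exists_rank_le_two [Finite F] {m : ℕ} (hm : 5 ≤ m) (hV : finrank F V = m) {A : End F V} {c : F} (hc : c ≠ 0)
    (hr : finrank F (LinearMap.range (A - c • (1 : End F V))) ≤ 2) (hA : A ≠ c • (1 : End F V))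
    {p g : F[X]} (hp : p.Monic) (hpd : p.natDegree = m) (hp0 : p.coeff 0 ≠ 0)
    (hg : g.Monic) (hgd : g.natDegree = m) (hg0 : g.coeff 0 ≠ 0)
    (hdet : p.coeff 0 = LinearMap.det A * g.coeff 0) (hne : p ≠ C (c ^ m) * g.comp (C c⁻¹ * X)) :
    ∃ Z : End F V, LinearMap.charpoly (A * Z) = p ∧ LinearMap.charpoly Z = g :=
  exists_rank_le_two' (Or.inl hm) hV hc hr hA hp hpd hp0 hg hgd hg0 hdet hne

/-- dimension 4, two elements, the same coefficient of `X ^ 2` -/
theorem exists_rank_le_two_F2 [Finite F] (hF : ∀ u : F, u = 0 ∨ u = 1) (hV : finrank F V = 4) {A : End F V} {c : F}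
    (hc : c ≠ 0)
    (hr : finrank F (LinearMap.range (A - c • (1 : End F V))) ≤ 2) (hA : A ≠ c • (1 : End F V))
    {p g : F[X]} (hp : p.Monic) (hpd : p.natDegree = 4) (hp0 : p.coeff 0 ≠ 0)
    (hg : g.Monic) (hgd : g.natDegree = 4) (hg0 : g.coeff 0 ≠ 0)
    (hdet : p.coeff 0 = LinearMap.det A * g.coeff 0) (hne : p ≠ C (c ^ 4) * g.comp (C c⁻¹ * X))
    (h2 : p.coeff 2 = g.coeff 2) :
    ∃ Z : End F V, LinearMap.charpoly (A * Z) = p ∧ LinearMap.charpoly Z = g := by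
  have h0 : finrank F (LinearMap.range (A - c • (1 : End F V))) ≠ 0 := by
    intro h
    rw [Submodule.finrank_eq_zero, LinearMap.range_eq_bot, sub_eq_zero] at h
    exact hA h
  by_cases h1 : finrank F (LinearMap.range (A - c • (1 : End F V))) = 1
  · exact exists_rank_le_one (by omega) hV hc h1 hp hpd hg hgd hg0 hdet hne
  · have hc1 : c = 1 := (hF c).resolve_left hc
    subst hc1
    rw [one_smul] at hr h0 h1
    refine exists_rank_two_F2 hF hV (fun h => hp0 ?_) (by omega) hp hpd hg hgd hg0 hdet h2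
    rw [hdet, h, zero_mul]

end Scale

section Matrix

variable {F : Type*} [Field F] {m : ℕ}

theorem of_toLin {A : Matrix (Fin m) (Fin m) F} {p g : F[X]}
    (h : ∃ Z : End F (Fin m → F), LinearMap.charpoly (A.toLin' * Z) = p ∧ LinearMap.charpoly Z = g) :
    ∃ X Z : Matrix (Fin m) (Fin m) F, A * Z = X ∧ X.charpoly = p ∧ Z.charpoly = g := by
  obtain ⟨Z, h1, h2⟩ := h
  refine ⟨A * LinearMap.toMatrix' Z, LinearMap.toMatrix' Z, rfl, ?_, ?_⟩
  · rw [← h1, ← Matrix.charpoly_toLin', Matrix.toLin'_mul, Matrix.toLin'_toMatrix']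
    rfl
  · rw [← h2, ← Matrix.charpoly_toLin', Matrix.toLin'_toMatrix']

theorem toLin_sub (A : Matrix (Fin m) (Fin m) F) (c : F) :
    A.toLin' - c • (1 : End F (Fin m → F)) = (A - c • (1 : Matrix (Fin m) (Fin m) F)).toLin' := by
  rw [map_sub, map_smul, Matrix.toLin'_one]
  rfl

theorem rank_toLin (A : Matrix (Fin m) (Fin m) F) (c : F) :
    finrank F (LinearMap.range (A.toLin' - c • (1 : End F (Fin m → F)))) = (A - c • (1 : Matrix (Fin m) (Fin m) F)).rank := by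
  rw [toLin_sub]
  rfl

/-- **`A - c` of rank 1**: matrix form, any field -/
theorem exists_mul_rank_one (hm : 2 ≤ m) (A : Matrix (Fin m) (Fin m) F) {c : F} (hc : c ≠ 0)
    (hr : (A - c • (1 : Matrix (Fin m) (Fin m) F)).rank = 1)
    {p g : F[X]} (hp : p.Monic) (hpd : p.natDegree = m) (hg : g.Monic) (hgd : g.natDegree = m) (hg0 : g.coeff 0 ≠ 0)
    (hdet : p.coeff 0 = A.det * g.coeff 0) (hne : p ≠ C (c ^ m) * g.comp (C c⁻¹ * X)) :
    ∃ X Z : Matrix (Fin m) (Fin m) F, A * Z = X ∧ X.charpoly = p ∧ Z.charpoly = g :=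
  of_toLin (exists_rank_le_one hm (by rw [Module.finrank_fin_fun]) hc (by rw [rank_toLin, hr]) hp hpd hg hgd hg0
    (by rw [LinearMap.det_toLin', hdet]) hne)

/-- **`A - c` of rank 1 or 2**: matrix form, finite field, `m ≥ 5` -/
theorem exists_mul_rank [Finite F] (hm : 5 ≤ m) (A : Matrix (Fin m) (Fin m) F) {c : F} (hc : c ≠ 0)
    (hr : (A - c • (1 : Matrix (Fin m) (Fin m) F)).rank ≤ 2) (hA : A ≠ c • (1 : Matrix (Fin m) (Fin m) F))
    {p g : F[X]} (hp : p.Monic) (hpd : p.natDegree = m) (hp0 : p.coeff 0 ≠ 0)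
    (hg : g.Monic) (hgd : g.natDegree = m) (hg0 : g.coeff 0 ≠ 0)
    (hdet : p.coeff 0 = A.det * g.coeff 0) (hne : p ≠ C (c ^ m) * g.comp (C c⁻¹ * X)) :
    ∃ X Z : Matrix (Fin m) (Fin m) F, A * Z = X ∧ X.charpoly = p ∧ Z.charpoly = g :=
  of_toLin (exists_rank_le_two hm (by rw [Module.finrank_fin_fun]) hc (by rw [rank_toLin]; exact hr) (fun h => hA (by
    have h1 := toLin_sub A c
    rw [h, sub_self] at h1
    have h2 : (A - c • (1 : Matrix (Fin m) (Fin m) F)) = 0 := Matrix.toLin'.injective (by rw [← h1, map_zero])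
    exact sub_eq_zero.1 h2)) hp hpd hp0 hg hgd hg0
    (by rw [LinearMap.det_toLin', hdet]) hne)

theorem ne_smul_one {A : Matrix (Fin m) (Fin m) F} {c : F} (hA : A ≠ c • (1 : Matrix (Fin m) (Fin m) F)) :
    A.toLin' ≠ c • (1 : End F (Fin m → F)) := fun h => hA (by
  have h1 := toLin_sub A c
  rw [h, sub_self] at h1
  have h2 : (A - c • (1 : Matrix (Fin m) (Fin m) F)) = 0 := Matrix.toLin'.injective (by rw [← h1, map_zero])
  exact sub_eq_zero.1 h2)

/-- **`A - c` of rank 1 or 2**: matrix form, finite field, `m ≥ 5` or `m = 4` and `|F| ≥ 3` -/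
theorem exists_mul_rank' [Finite F] (hm : 5 ≤ m ∨ (m = 4 ∧ 3 ≤ Nat.card F)) (A : Matrix (Fin m) (Fin m) F) {c : F}
    (hc : c ≠ 0)
    (hr : (A - c • (1 : Matrix (Fin m) (Fin m) F)).rank ≤ 2) (hA : A ≠ c • (1 : Matrix (Fin m) (Fin m) F))
    {p g : F[X]} (hp : p.Monic) (hpd : p.natDegree = m) (hp0 : p.coeff 0 ≠ 0)
    (hg : g.Monic) (hgd : g.natDegree = m) (hg0 : g.coeff 0 ≠ 0)
    (hdet : p.coeff 0 = A.det * g.coeff 0) (hne : p ≠ C (c ^ m) * g.comp (C c⁻¹ * X)) :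
    ∃ X Z : Matrix (Fin m) (Fin m) F, A * Z = X ∧ X.charpoly = p ∧ Z.charpoly = g :=
  of_toLin (exists_rank_le_two' hm (by rw [Module.finrank_fin_fun]) hc (by rw [rank_toLin]; exact hr) (ne_smul_one hA)
    hp hpd hp0 hg hgd hg0 (by rw [LinearMap.det_toLin', hdet]) hne)

/-- two elements, `m = 4`, the same coefficient of `X ^ 2` -/
theorem exists_mul_rank_F2 [Finite F] (hF : ∀ u : F, u = 0 ∨ u = 1) (A : Matrix (Fin 4) (Fin 4) F) {c : F}
    (hc : c ≠ 0)
    (hr : (A - c • (1 : Matrix (Fin 4) (Fin 4) F)).rank ≤ 2) (hA : A ≠ c • (1 : Matrix (Fin 4) (Fin 4) F))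
    {p g : F[X]} (hp : p.Monic) (hpd : p.natDegree = 4) (hp0 : p.coeff 0 ≠ 0)
    (hg : g.Monic) (hgd : g.natDegree = 4) (hg0 : g.coeff 0 ≠ 0)
    (hdet : p.coeff 0 = A.det * g.coeff 0) (hne : p ≠ C (c ^ 4) * g.comp (C c⁻¹ * X))
    (h2 : p.coeff 2 = g.coeff 2) :
    ∃ X Z : Matrix (Fin 4) (Fin 4) F, A * Z = X ∧ X.charpoly = p ∧ Z.charpoly = g :=
  of_toLin (exists_rank_le_two_F2 hF (by rw [Module.finrank_fin_fun]) hc (by rw [rank_toLin]; exact hr) (ne_smul_one hA)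
    hp hpd hp0 hg hgd hg0 (by rw [LinearMap.det_toLin', hdet]) hne h2)

end Matrix

end Cfsg.Agent.H130.War
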