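import Cfsg.Agent.H130.War.RankTwo
import Mathlib.LinearAlgebra.Transvection.Basic

/-!
# `A - 1` of rank 1 (S2453)

`exists_rank_one` : `F` any field, `A - 1` of rank 1, `p ≠ g` monic of degree `n + 1 ≥ 2` with
`p(0) = det A * g(0) ≠ 0`: there is `Z` with characteristic polynomial `g` such that `A Z` has characteristic polynomial `p`.
-/

set_option autoImplicit false
set_option linter.unusedSectionVars false

namespace Cfsg.Agent.H130.War

open Polynomial Module

variable {F V : Type*} [Field F] [AddCommGroup V] [Module F V]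

section Chain

variable {n : ℕ}

/-- the combination of the chain with the coefficients of `h` -/
noncomputable def ev1 (B : Fin (n + 1) → V) (h : F[X]) : V := ∑ i : Fin (n + 1), h.coeff i • B i

/-- one chain -/
structure IsChain1 (B : Basis (Fin (n + 1)) F V) (Z : End F V) (a : F[X]) : Prop where
  step : ∀ i : Fin n, Z (B i.castSucc) = B i.succ
  one : Z (B (Fin.last n)) = ev1 B a

variable {B : Basis (Fin (n + 1)) F V} {Z : End F V} {a : F[X]}

theorem IsChain1.pow (h : IsChain1 B Z a) (i : ℕ) (hi : i < n + 1) :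
    (Z ^ i) (B 0) = B ⟨i, hi⟩ := by
  induction i with
  | zero => rw [pow_zero]; rfl
  | succ i ih =>
    rw [pow_succ', Module.End.mul_apply, ih (by omega)]
    exact h.step ⟨i, by omega⟩

theorem IsChain1.charpoly [FiniteDimensional F V] (h : IsChain1 B Z a) (ha : a.natDegree < n + 1) :
    LinearMap.charpoly Z = X ^ (n + 1) - a := by
  have h1 : (X ^ (n + 1) - a).natDegree = n + 1 := by
    rw [natDegree_sub_eq_left_of_natDegree_lt (by rw [natDegree_X_pow]; exact ha), natDegree_X_pow]
  refine charpoly_eq_of_kill (v := B 0) (m := n + 1) (by rw [finrank_eq_card_basis B, Fintype.card_fin]) ?_ ?_ h1 ?_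
  · have e : (fun i : Fin (n + 1) => (Z ^ (i : ℕ)) (B 0)) = B := by
      funext i
      exact h.pow i i.2
    rw [e]
    exact B.linearIndependent
  · rw [Monic, leadingCoeff, h1, coeff_sub, coeff_X_pow, if_pos rfl, coeff_eq_zero_of_natDegree_lt ha, sub_zero]
  · rw [map_sub, map_pow, aeval_X, LinearMap.sub_apply, pow_succ', Module.End.mul_apply, h.pow n (by omega),
      aeval_apply_eq ha]
    have h2 := h.one
    rw [show (⟨n, by omega⟩ : Fin (n + 1)) = Fin.last n from rfl, h2, ev1, sub_eq_zero]
    exact Finset.sum_congr rfl fun i _ => by rw [h.pow i i.2]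

theorem exists_chain1 (B : Basis (Fin (n + 1)) F V) (a : F[X]) : ∃ Z : End F V, IsChain1 B Z a := by
  let f : Fin (n + 1) → V := fun j => Fin.lastCases (motive := fun _ => V) (ev1 B a) (fun i => B i.succ) j
  refine ⟨B.constr F f, ⟨fun i => ?_, ?_⟩⟩
  · rw [B.constr_basis]
    simp only [f, Fin.lastCases_castSucc]
  · rw [B.constr_basis]
    simp only [f, Fin.lastCases_last]

end Chain

section Basis

variable [FiniteDimensional F V] {n : ℕ} {W : Submodule F V} {x : V}

/-- a basis of `V` from `x` and a basis of `W` -/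
theorem exists_basis1 (hV : finrank F V = n + 1) (hind : ∀ s : F, s • x ∈ W → s = 0)
    (β : Fin n → V) (hβ : LinearIndependent F β) (hβW : ∀ i, β i ∈ W) :
    ∃ B : Basis (Fin (n + 1)) F V, B 0 = x ∧ ∀ i : Fin n, B i.succ = β i := by
  let f : Fin (n + 1) → V := fun j => Fin.cases (motive := fun _ => V) x β j
  have f0 : f 0 = x := by simp only [f, Fin.cases_zero]
  have f1 : ∀ i : Fin n, f i.succ = β i := fun i => by simp only [f, Fin.cases_succ]
  have hli : LinearIndependent F f := by
    rw [Fintype.linearIndependent_iff]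
    intro g hg
    rw [Fin.sum_univ_succ, f0] at hg
    simp only [f1] at hg
    have hw : ∑ i : Fin n, g i.succ • β i ∈ W :=
      Submodule.sum_mem _ fun i _ => W.smul_mem _ (hβW i)
    have h2 : g 0 • x ∈ W := by
      have : g 0 • x = - ∑ i : Fin n, g i.succ • β i := by
        rw [eq_neg_iff_add_eq_zero, hg]
      rw [this]; exact W.neg_mem hw
    have h3 := hind _ h2
    rw [h3, zero_smul, zero_add] at hg
    have h5 := Fintype.linearIndependent_iff.1 hβ _ hg
    intro i
    refine Fin.cases h3 (fun j => ?_) i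
    exact h5 j
  let B := basisOfLinearIndependentOfCardEqFinrank hli (by rw [Fintype.card_fin, hV])
  have hB : ∀ i, B i = f i := fun i => by
    rw [coe_basisOfLinearIndependentOfCardEqFinrank]
  exact ⟨B, by rw [hB, f0], fun i => by rw [hB, f1]⟩

end Basis

section Main

variable [FiniteDimensional F V] {n : ℕ}

theorem sub_monic {p : F[X]} (hp : p.Monic) (hd : p.natDegree = n + 1) : (X ^ (n + 1) - p).natDegree < n + 1 := by
  refine Nat.lt_succ_of_le ?_
  rw [natDegree_le_iff_coeff_eq_zero]
  intro N hN
  rw [coeff_sub, coeff_X_pow]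
  by_cases h : N = n + 1
  · subst h
    have h1 : p.coeff (n + 1) = 1 := by rwa [Monic, leadingCoeff, hd] at hp
    rw [if_pos rfl, h1, sub_self]
  · rw [if_neg h, coeff_eq_zero_of_natDegree_lt (by omega), sub_zero]

/-- a rank one endomorphism -/
theorem rank_one_form {N : End F V} (hr : finrank F (LinearMap.range N) = 1) :
    ∃ (f : V →ₗ[F] F) (u : V), u ≠ 0 ∧ N = f.smulRight u := by
  obtain ⟨u', hu', hu⟩ := finrank_eq_one_iff'.1 hr
  choose c hc using hu
  let N' : V →ₗ[F] LinearMap.range N := N.rangeRestrict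
  have hu0 : (u' : V) ≠ 0 := fun h => hu' (Subtype.ext h)
  have key : ∀ v, N v = c (N' v) • (u' : V) := fun v => by
    have := hc (N' v)
    exact (congrArg (fun w : LinearMap.range N => (w : V)) this).symm
  refine ⟨{ toFun := fun v => c (N' v), map_add' := fun v w => ?_, map_smul' := fun r v => ?_ }, u', hu0, ?_⟩
  · have h1 : (c (N' (v + w)) - (c (N' v) + c (N' w))) • (u' : V) = 0 := by
      rw [sub_smul, add_smul, ← key, ← key, ← key, map_add, sub_self]
    exact sub_eq_zero.1 ((smul_eq_zero.1 h1).resolve_right hu0)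
  · have h1 : (c (N' (r • v)) - r • c (N' v)) • (u' : V) = 0 := by
      rw [sub_smul, smul_assoc, ← key, ← key, map_smul, sub_self]
    exact sub_eq_zero.1 ((smul_eq_zero.1 h1).resolve_right hu0)
  · ext v
    exact key v

theorem exists_rank_one (hn : 1 ≤ n) (hV : finrank F V = n + 1) {A : End F V}
    (hr : finrank F (LinearMap.range (A - 1)) = 1) {p g : F[X]} (hp : p.Monic) (hpd : p.natDegree = n + 1)
    (hg : g.Monic) (hgd : g.natDegree = n + 1) (hg0 : g.coeff 0 ≠ 0) (hdet : p.coeff 0 = LinearMap.det A * g.coeff 0)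
    (hne : p ≠ g) : ∃ Z : End F V, LinearMap.charpoly (A * Z) = p ∧ LinearMap.charpoly Z = g := by
  obtain ⟨f, u, hu, hN⟩ := rank_one_form hr
  have hAN : ∀ v, A v = v + f v • u := fun v => by
    have := congrArg (fun T : End F V => T v) hN
    simp only [LinearMap.sub_apply, Module.End.one_apply, LinearMap.smulRight_apply] at this
    rw [← this]; abel
  have hdetA : LinearMap.det A = 1 + f u := by
    have h1 : A = LinearMap.transvection f u := by
      ext v; rw [hAN, LinearMap.transvection.apply]
    rw [h1, LinearMap.transvection.det]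
  have hf : f ≠ 0 := by
    rintro rfl
    rw [hN] at hr
    have : (LinearMap.smulRight (0 : V →ₗ[F] F) u) = 0 := by ext v; simp
    rw [this, LinearMap.range_zero, finrank_bot] at hr
    exact absurd hr (by norm_num)
  obtain ⟨W, hW⟩ : ∃ W, W = LinearMap.ker f := ⟨_, rfl⟩
  have hWd : finrank F W = n := by
    have h1 := LinearMap.finrank_range_add_finrank_ker f
    rw [LinearMap.range_eq_top.2 (LinearMap.surjective hf), finrank_top, finrank_self, hV] at h1
    rw [hW]; omega
  have hfW : ∀ v ∈ W, f v = 0 := fun v hv => by rw [hW] at hv; exact hv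
  -- the polynomials
  obtain ⟨a, ha⟩ : ∃ a, a = X ^ (n + 1) - g := ⟨_, rfl⟩
  obtain ⟨a', ha'⟩ : ∃ a', a' = X ^ (n + 1) - p := ⟨_, rfl⟩
  have had : a.natDegree < n + 1 := by rw [ha]; exact sub_monic hg hgd
  have ha'd : a'.natDegree < n + 1 := by rw [ha']; exact sub_monic hp hpd
  have ha0 : a.coeff 0 = - g.coeff 0 := by
    rw [ha, coeff_sub, coeff_X_pow, if_neg (by omega), zero_sub]
  -- the vector `x`
  obtain ⟨x, β, hxW, hT⟩ : ∃ (x : V) (β : Basis (Fin n) F W), x ∉ W ∧ ∃ w : F,
      a.coeff 0 • (f x • u) = w • x + ∑ i : Fin n, (a' - a).coeff ((i : ℕ) + 1) • (β i : V) := by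
    by_cases hη : (fun i : Fin n => (a' - a).coeff ((i : ℕ) + 1)) = 0
    · -- only the constant coefficients differ
      have h1 : f u ≠ 0 := by
        intro h0
        rw [h0, add_zero] at hdetA
        rw [hdetA, one_mul] at hdet
        apply hne
        have h2 : a' - a = g - p := by rw [ha, ha']; ring
        rw [h2] at hη
        ext i
        rcases Nat.eq_zero_or_pos i with rfl | hi
        · exact hdet
        · obtain ⟨j, rfl⟩ : ∃ j, i = j + 1 := ⟨i - 1, by omega⟩
          by_cases hj : j < n
          · have h3 := congrFun hη ⟨j, hj⟩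
            simp only [coeff_sub, Pi.zero_apply] at h3
            exact (sub_eq_zero.1 h3).symm
          · rcases Nat.lt_or_ge (j + 1) (n + 2) with h | h
            · have : j = n := by omega
              subst this
              have h4 : p.coeff (j + 1) = 1 := by rwa [Monic, leadingCoeff, hpd] at hp
              have h5 : g.coeff (j + 1) = 1 := by rwa [Monic, leadingCoeff, hgd] at hg
              rw [h4, h5]
            · rw [coeff_eq_zero_of_natDegree_lt (by omega), coeff_eq_zero_of_natDegree_lt (by omega)]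
      refine ⟨u, Module.finBasisOfFinrankEq F W hWd, fun h => h1 (by rw [hW] at h; exact h), a.coeff 0 * f u, ?_⟩
      rw [Finset.sum_eq_zero (fun i _ => by rw [show (a' - a).coeff ((i : ℕ) + 1) = 0 from congrFun hη i, zero_smul]),
        add_zero, mul_smul]
    · -- `x` outside of `W` and of the line of `u`
      obtain ⟨x, hxW, hxR⟩ : ∃ x, x ∉ W ∧ x ∉ Submodule.span F {u} := exists_notMem_two
        (fun h => by rw [h, finrank_top] at hWd; omega)
        (fun h => by
          have h2 : finrank F (Submodule.span F {u}) ≤ 1 := le_trans (finrank_span_le_card ({u} : Set V)) (by simp)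
          rw [h, finrank_top] at h2; omega)
      have hfx : f x ≠ 0 := fun h => hxW (by rw [hW]; exact h)
      have hω : u - (f u / f x) • x ∈ W := by
        rw [hW, LinearMap.mem_ker, map_sub, map_smul, smul_eq_mul, div_mul_cancel₀ _ hfx, sub_self]
      have hω0 : (⟨(a.coeff 0 * f x) • (u - (f u / f x) • x), W.smul_mem _ hω⟩ : W) ≠ 0 := by
        intro h
        have h1 : (a.coeff 0 * f x) • (u - (f u / f x) • x) = 0 := congrArg (fun w : W => (w : V)) h
        have h2 : u - (f u / f x) • x = 0 := (smul_eq_zero.1 h1).resolve_left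
          (mul_ne_zero (by rw [ha0]; exact neg_ne_zero.2 hg0) hfx)
        rw [sub_eq_zero] at h2
        have h3 : f u / f x ≠ 0 := fun h => hu (by rw [h2, h, zero_smul])
        apply hxR
        have : x = (f u / f x)⁻¹ • u := by
          have h4 := congrArg (fun v => (f u / f x)⁻¹ • v) h2
          simp only [smul_smul, inv_mul_cancel₀ h3, one_smul] at h4
          exact h4.symm
        rw [this]
        exact Submodule.smul_mem _ _ (Submodule.mem_span_singleton_self u)
      obtain ⟨T, hT⟩ := exists_equiv_pair (F := F) (U := Fin n → F) (W := W) (ι := Fin 1)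
        (u := ![fun i : Fin n => (a' - a).coeff ((i : ℕ) + 1)])
        (w := ![⟨(a.coeff 0 * f x) • (u - (f u / f x) • x), W.smul_mem _ hω⟩])
        (by rw [Module.finrank_fin_fun, hWd]) (LinearIndependent.of_subsingleton 0 hη)
        (LinearIndependent.of_subsingleton 0 hω0)
      have hT0 : T (fun i : Fin n => (a' - a).coeff ((i : ℕ) + 1)) =
        ⟨(a.coeff 0 * f x) • (u - (f u / f x) • x), W.smul_mem _ hω⟩ := hT 0
      refine ⟨x, (Pi.basisFun F (Fin n)).map T, hxW, a.coeff 0 * f u, ?_⟩
      have hβ : ∀ h : Fin n → F, ∑ i, h i • (((Pi.basisFun F (Fin n)).map T i : W) : V) = (T h : V) := by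
        intro h
        have h1 : T h = ∑ i, h i • (Pi.basisFun F (Fin n)).map T i := by
          conv_lhs => rw [← (Pi.basisFun F (Fin n)).sum_repr h]
          rw [map_sum]
          exact Finset.sum_congr rfl fun i _ => by rw [map_smul, Basis.map_apply]; rfl
        rw [h1, Submodule.coe_sum]
        rfl
      rw [hβ, hT0]
      show _ = (a.coeff 0 * f u) • x + (a.coeff 0 * f x) • (u - (f u / f x) • x)
      rw [smul_sub, smul_smul, smul_smul, mul_assoc (a.coeff 0) (f x), mul_div_cancel₀ _ hfx]
      abel
  obtain ⟨w, hw⟩ := hT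
  obtain ⟨B, hBx, hBβ⟩ := exists_basis1 (W := W) hV (x := x) (fun s hs => by
      by_contra h0
      apply hxW
      have h1 : x = s⁻¹ • (s • x) := by rw [smul_smul, inv_mul_cancel₀ h0, one_smul]
      rw [h1]
      exact W.smul_mem _ hs) (fun i => (β i : V))
    (β.linearIndependent.map' W.subtype (Submodule.ker_subtype W)) (fun i => (β i).2)
  have hev : ∀ h : F[X], ev1 B h = h.coeff 0 • x + ∑ i : Fin n, h.coeff ((i : ℕ) + 1) • (β i : V) := by
    intro h
    rw [ev1, Fin.sum_univ_succ, hBx]
    simp only [hBβ]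
    rfl
  obtain ⟨Z, hZ⟩ := exists_chain1 B a
  obtain ⟨ε, hε⟩ : ∃ ε, ε = a.coeff 0 + w - a'.coeff 0 := ⟨_, rfl⟩
  have hchain : IsChain1 B (A * Z) (a' + C ε) := by
    refine ⟨fun i => ?_, ?_⟩
    · rw [Module.End.mul_apply, hZ.step i, hBβ, hAN]
      rw [hfW _ (β i).2, zero_smul, add_zero]
    · rw [Module.End.mul_apply, hZ.one, hAN, hev (a' + C ε)]
      have h1 : ∀ i : Fin n, (a' + C ε).coeff ((i : ℕ) + 1) = a.coeff ((i : ℕ) + 1) + (a' - a).coeff ((i : ℕ) + 1) :=
        fun i => by rw [coeff_add, coeff_C_succ, add_zero, coeff_sub]; ring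
      have h2 : (a' + C ε).coeff 0 = a.coeff 0 + w := by rw [coeff_add, coeff_C_zero, hε]; ring
      simp only [h1, h2, add_smul, Finset.sum_add_distrib]
      have h3 : f (ev1 B a) = a.coeff 0 * f x := by
        rw [hev a, map_add, map_smul, map_sum, Finset.sum_eq_zero (fun i _ => by
          rw [map_smul, hfW _ (β i).2, smul_zero]), add_zero, smul_eq_mul]
      rw [h3, mul_smul, hw, hev a]
      abel
  have hcp := hchain.charpoly (lt_of_le_of_lt (natDegree_add_le _ _) (max_lt ha'd (by rw [natDegree_C]; omega)))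
  have hcp' : LinearMap.charpoly (A * Z) = p - C ε := by
    rw [hcp, ha']; ring
  have hZc : LinearMap.charpoly Z = g := by
    rw [hZ.charpoly had, ha]; ring
  refine ⟨Z, ?_, hZc⟩
  have h1 := coeff_zero_mul A Z
  rw [hcp', hZc, ← hdet, coeff_sub, coeff_C_zero] at h1
  have h2 : ε = 0 := by linear_combination -h1
  rw [hcp', h2, C_0, sub_zero]

end Main

end Cfsg.Agent.H130.War
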