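import Cfsg.Agent.H130.War.Chain
import Mathlib.LinearAlgebra.Charpoly.BaseChange
import Mathlib.SetTheory.Cardinal.NatCard
import Mathlib.SetTheory.Cardinal.Finite

/-!
# `A - 1` of rank 2 (S2453)

`exists_rank_two` : `dim V = n + 3 ≥ 5` (or `= 4` and `|F| ≥ 3`), `F` finite, `A - 1` of rank 2, `p`, `g` monic of degree `n + 3` with
`p(0) = det A * g(0) ≠ 0`: there is `Z` with characteristic polynomial `g` such that `A Z` has characteristic polynomial `p`.
-/

set_option autoImplicit false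
set_option linter.unusedSectionVars false

namespace Cfsg.Agent.H130.War

open Polynomial Module

variable {F V : Type*} [Field F] [AddCommGroup V] [Module F V]

/-- two proper subspaces do not cover -/
theorem exists_notMem_two {P Q : Submodule F V} (hP : P ≠ ⊤) (hQ : Q ≠ ⊤) : ∃ v, v ∉ P ∧ v ∉ Q := by
  obtain ⟨u, hu⟩ : ∃ u, u ∉ P := by
    by_contra h; push Not at h; exact hP (eq_top_iff.2 fun v _ => h v)
  obtain ⟨w, hw⟩ : ∃ w, w ∉ Q := by
    by_contra h; push Not at h; exact hQ (eq_top_iff.2 fun v _ => h v)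
  by_cases h1 : u ∈ Q
  · by_cases h2 : w ∈ P
    · refine ⟨u + w, fun h => hu ?_, fun h => hw ?_⟩
      · have := P.sub_mem h h2; rwa [add_sub_cancel_right] at this
      · have := Q.sub_mem h h1; rwa [add_sub_cancel_left] at this
    · exact ⟨w, h2, hw⟩
  · exact ⟨u, hu, h1⟩

theorem exists_equiv_pair {U W ι : Type*} [AddCommGroup U] [Module F U] [AddCommGroup W] [Module F W]
    [FiniteDimensional F U] [FiniteDimensional F W] [Finite ι] (hd : finrank F U = finrank F W) {u : ι → U} {w : ι → W}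
    (hu : LinearIndependent F u) (hw : LinearIndependent F w) : ∃ T : U ≃ₗ[F] W, ∀ i, T (u i) = w i := by
  classical
  let S : U ≃ₗ[F] W := LinearEquiv.ofFinrankEq U W hd
  have hu' : LinearIndependent F (fun i => S (u i)) := hu.map' S.toLinearMap (LinearEquiv.ker S)
  let f := hu'.linearCombinationEquiv.symm ≪≫ₗ hw.linearCombinationEquiv
  obtain ⟨g, hg⟩ := Submodule.exists_linearEquiv_restrict_eq f
  refine ⟨S ≪≫ₗ g, fun i => ?_⟩
  have h1 : ((hu'.linearCombinationEquiv (Finsupp.single i 1) : Submodule.span F (Set.range fun i => S (u i))) : W)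
      = S (u i) := by simp
  have h2 : ((hw.linearCombinationEquiv (Finsupp.single i 1) : Submodule.span F (Set.range w)) : W)
      = w i := by simp
  rw [LinearEquiv.trans_apply, ← h1, ← hg, ← h2]
  simp [f]

section Basis

variable [FiniteDimensional F V] {n : ℕ} {W : Submodule F V} {x y : V}

/-- a basis of `V` from `x`, a basis of `W` and `y` -/
theorem exists_basis (hV : finrank F V = n + 3) (hind : ∀ s t : F, s • x + t • y ∈ W → s = 0 ∧ t = 0)
    (β : Fin (n + 1) → V) (hβ : LinearIndependent F β) (hβW : ∀ i, β i ∈ W) :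
    ∃ B : Basis (Fin (n + 3)) F V, B 0 = x ∧ (∀ i : Fin (n + 1), B i.succ.castSucc = β i) ∧ B (Fin.last (n + 2)) = y := by
  let f : Fin (n + 3) → V := fun j => Fin.lastCases (motive := fun _ => V) y
    (fun i => Fin.cases (motive := fun _ => V) x β i) j
  have f0 : f 0 = x := by
    show f (0 : Fin (n + 2)).castSucc = x
    simp only [f, Fin.lastCases_castSucc, Fin.cases_zero]
  have f1 : ∀ i : Fin (n + 1), f i.succ.castSucc = β i := fun i => by
    simp only [f, Fin.lastCases_castSucc, Fin.cases_succ]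
  have f2 : f (Fin.last (n + 2)) = y := by simp only [f, Fin.lastCases_last]
  have hli : LinearIndependent F f := by
    rw [Fintype.linearIndependent_iff]
    intro g hg
    rw [Fin.sum_univ_castSucc, Fin.sum_univ_succ] at hg
    have h0 : (Fin.castSucc (0 : Fin (n + 2)) : Fin (n + 3)) = 0 := rfl
    rw [h0, f0, f2] at hg
    simp only [f1] at hg
    have hw : ∑ i : Fin (n + 1), g i.succ.castSucc • β i ∈ W :=
      Submodule.sum_mem _ fun i _ => W.smul_mem _ (hβW i)
    have h2 : g 0 • x + g (Fin.last (n + 2)) • y ∈ W := by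
      have : g 0 • x + g (Fin.last (n + 2)) • y = - ∑ i : Fin (n + 1), g i.succ.castSucc • β i := by
        rw [eq_neg_iff_add_eq_zero, ← hg]; abel
      rw [this]; exact W.neg_mem hw
    obtain ⟨h3, h4⟩ := hind _ _ h2
    rw [h3, h4, zero_smul, zero_smul, zero_add, add_zero] at hg
    have h5 := Fintype.linearIndependent_iff.1 hβ _ hg
    intro i
    refine Fin.lastCases h4 (fun j => ?_) i
    refine Fin.cases h3 (fun k => ?_) j
    exact h5 k
  let B := basisOfLinearIndependentOfCardEqFinrank hli (by rw [Fintype.card_fin, hV])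
  have hB : ∀ i, B i = f i := fun i => by
    rw [coe_basisOfLinearIndependentOfCardEqFinrank]
  exact ⟨B, by rw [hB, f0], fun i => by rw [hB, f1], by rw [hB, f2]⟩

end Basis

/-! ### The polynomials -/

section Pol

variable {n : ℕ} {p g : F[X]}

/-- the second polynomial -/
noncomputable def cc (n : ℕ) (b d : F) (a g : F[X]) : F[X] := C b⁻¹ * ((X - C d) * (X ^ (n + 2) - a) - g)

theorem cc_mul {b : F} (hb : b ≠ 0) (d : F) (a g : F[X]) : C b * cc n b d a g = (X - C d) * (X ^ (n + 2) - a) - g := by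
  rw [cc, ← mul_assoc, ← C_mul, mul_inv_cancel₀ hb, C_1, one_mul]

theorem cc_char {b : F} (hb : b ≠ 0) (d : F) (a g : F[X]) : (X - C d) * (X ^ (n + 2) - a) - C b * cc n b d a g = g := by
  rw [cc_mul hb]; ring

theorem cc_degree {b d : F} {a g : F[X]} (hg : g.Monic) (hgd : g.natDegree = n + 3) (ha : a.natDegree < n + 2)
    (htop : a.coeff (n + 1) = - g.coeff (n + 2) - d) : (cc n b d a g).natDegree < n + 2 := by
  refine lt_of_le_of_lt (natDegree_C_mul_le _ _) (Nat.lt_succ_of_le ?_)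
  rw [natDegree_le_iff_coeff_eq_zero]
  intro N hN
  have e : (X - C d) * (X ^ (n + 2) - a) - g = X ^ (n + 3) - X * a - C d * X ^ (n + 2) + C d * a - g := by ring
  rw [e]
  simp only [coeff_sub, coeff_add, coeff_C_mul, coeff_X_pow]
  obtain ⟨N, rfl⟩ : ∃ M, N = M + 1 := ⟨N - 1, by omega⟩
  rw [coeff_X_mul]
  rcases Nat.lt_trichotomy N (n + 2) with h | h | h
  · have : N = n + 1 := by omega
    subst this
    rw [coeff_eq_zero_of_natDegree_lt (show a.natDegree < n + 1 + 1 by omega), htop, if_neg (by omega), if_pos rfl]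
    ring
  · subst h
    have h1 : g.coeff (n + 2 + 1) = 1 := by
      have := hg
      rwa [Monic, leadingCoeff, hgd] at this
    rw [h1, coeff_eq_zero_of_natDegree_lt (show a.natDegree < n + 2 + 1 by omega), coeff_eq_zero_of_natDegree_lt ha,
      if_pos rfl, if_neg (by omega)]
    ring
  · rw [coeff_eq_zero_of_natDegree_lt (show a.natDegree < N + 1 by omega),
      coeff_eq_zero_of_natDegree_lt (show a.natDegree < N by omega),
      coeff_eq_zero_of_natDegree_lt (show g.natDegree < N + 1 by omega), if_neg (by omega), if_neg (by omega)]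
    ring

theorem cc_coeff_zero {b d : F} {a g : F[X]} : (cc n b d a g).coeff 0 = b⁻¹ * (d * a.coeff 0 - g.coeff 0) := by
  rw [cc, coeff_C_mul]
  have e : (X - C d) * (X ^ (n + 2) - a) - g = X * (X ^ (n + 2) - a - C d * X ^ (n + 1)) + C d * a - g := by ring
  rw [e, coeff_sub, coeff_add, mul_coeff_zero, coeff_X_zero, zero_mul, coeff_C_mul, zero_add]

/-- the first polynomial with the free coefficients `τ` -/
noncomputable def aa (n : ℕ) (a₀ t : F) (τ : Fin n → F) : F[X] :=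
  C a₀ + ∑ i : Fin n, C (τ i) * X ^ ((i : ℕ) + 1) + C t * X ^ (n + 1)

theorem aa_coeff_zero (a₀ t : F) (τ : Fin n → F) : (aa n a₀ t τ).coeff 0 = a₀ := by
  simp [aa, coeff_X_pow]

theorem aa_coeff_mid (a₀ t : F) (τ : Fin n → F) (i : Fin n) : (aa n a₀ t τ).coeff ((i : ℕ) + 1) = τ i := by
  have h1 : (n + 1 : ℕ) ≠ (i : ℕ) + 1 := by have := i.2; omega
  rw [aa]
  simp only [coeff_add, coeff_C_mul, coeff_X_pow, finsetSum_coeff, coeff_C_succ, zero_add]
  rw [Finset.sum_eq_single i (fun j _ hj => by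
    rw [if_neg (fun h => hj (Fin.ext (by omega))), mul_zero]) (fun h => absurd (Finset.mem_univ i) h), if_pos rfl, mul_one,
    if_neg h1.symm, mul_zero, add_zero]

theorem aa_coeff_top (a₀ t : F) (τ : Fin n → F) : (aa n a₀ t τ).coeff (n + 1) = t := by
  rw [aa]
  simp only [coeff_add, coeff_C_mul, coeff_X_pow, finsetSum_coeff, coeff_C_succ, zero_add, if_true, mul_one]
  rw [Finset.sum_eq_zero (fun j _ => by rw [if_neg (by have := j.2; omega), mul_zero]), zero_add]

theorem aa_degree (a₀ t : F) (τ : Fin n → F) : (aa n a₀ t τ).natDegree < n + 2 := by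
  refine Nat.lt_succ_of_le ?_
  rw [natDegree_le_iff_coeff_eq_zero]
  intro N hN
  obtain ⟨N, rfl⟩ : ∃ M, N = M + 1 := ⟨N - 1, by omega⟩
  rw [aa]
  simp only [coeff_add, coeff_C_mul, coeff_X_pow, finsetSum_coeff, coeff_C_succ, zero_add]
  rw [Finset.sum_eq_zero (fun j _ => by rw [if_neg (by have := j.2; omega), mul_zero]), if_neg (by omega), mul_zero,
    add_zero]

/-- the free coefficients are determined by the ratio -/
theorem tau_inj {b' d' a₀ t : F} (hb : b' ≠ 0) (hp : p.Monic) (hpd : p.natDegree = n + 3)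
    (ht : t = - p.coeff (n + 2) - d') {a c : F[X]} {κ : F} {τ τ' : Fin n → F}
    (h : ∀ i : Fin (n + 1), (cc n b' d' (aa n a₀ t τ) p - c).coeff ((i : ℕ) + 1) =
      κ * (aa n a₀ t τ - a).coeff ((i : ℕ) + 1))
    (h' : ∀ i : Fin (n + 1), (cc n b' d' (aa n a₀ t τ') p - c).coeff ((i : ℕ) + 1) =
      κ * (aa n a₀ t τ' - a).coeff ((i : ℕ) + 1)) : τ = τ' := by
  have hd1 : (cc n b' d' (aa n a₀ t τ) p).natDegree < n + 2 :=
    cc_degree hp hpd (aa_degree _ _ _) (by rw [aa_coeff_top, ht])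
  have hd2 : (cc n b' d' (aa n a₀ t τ') p).natDegree < n + 2 :=
    cc_degree hp hpd (aa_degree _ _ _) (by rw [aa_coeff_top, ht])
  have e1 : cc n b' d' (aa n a₀ t τ) p - cc n b' d' (aa n a₀ t τ') p = C κ * (aa n a₀ t τ - aa n a₀ t τ') := by
    ext i
    rw [coeff_sub, coeff_C_mul, coeff_sub]
    rcases Nat.eq_zero_or_pos i with rfl | hi
    · rw [cc_coeff_zero, cc_coeff_zero, aa_coeff_zero, aa_coeff_zero]; ring
    · obtain ⟨j, rfl⟩ : ∃ j, i = j + 1 := ⟨i - 1, by omega⟩
      by_cases hj : j < n + 1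
      · have h1 := h ⟨j, hj⟩
        have h2 := h' ⟨j, hj⟩
        simp only [coeff_sub] at h1 h2
        linear_combination h1 - h2
      · rw [coeff_eq_zero_of_natDegree_lt (by omega), coeff_eq_zero_of_natDegree_lt (by omega),
          coeff_eq_zero_of_natDegree_lt (lt_of_lt_of_le (aa_degree a₀ t τ) (by omega)),
          coeff_eq_zero_of_natDegree_lt (lt_of_lt_of_le (aa_degree a₀ t τ') (by omega))]
        ring
  have e2 := cc_mul (n := n) hb d' (aa n a₀ t τ) p
  have e3 := cc_mul (n := n) hb d' (aa n a₀ t τ') p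
  have e4 : (X - C (d' - b' * κ)) * (aa n a₀ t τ - aa n a₀ t τ') = 0 := by
    have e5 : C b' * (cc n b' d' (aa n a₀ t τ) p - cc n b' d' (aa n a₀ t τ') p) =
      C b' * (C κ * (aa n a₀ t τ - aa n a₀ t τ')) := by rw [e1]
    rw [mul_sub, e2, e3] at e5
    rw [C_sub, C_mul]
    linear_combination -e5
  have e6 : aa n a₀ t τ - aa n a₀ t τ' = 0 := (mul_eq_zero.1 e4).resolve_left (X_sub_C_ne_zero _)
  funext i
  have e7 := congrArg (fun f : F[X] => f.coeff ((i : ℕ) + 1)) (sub_eq_zero.1 e6)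
  simp only [aa_coeff_mid] at e7
  exact e7

theorem exists_tau [Finite F] (hn : 2 ≤ n) {b' d' a₀ t : F} (hb : b' ≠ 0) (hp : p.Monic) (hpd : p.natDegree = n + 3)
    (ht : t = - p.coeff (n + 2) - d') {a c : F[X]} (ha : ∀ i : Fin n, a.coeff ((i : ℕ) + 1) = 0) :
    ∃ τ : Fin n → F, LinearIndependent F ![fun i : Fin (n + 1) => (aa n a₀ t τ - a).coeff ((i : ℕ) + 1),
      fun i : Fin (n + 1) => (cc n b' d' (aa n a₀ t τ) p - c).coeff ((i : ℕ) + 1)] := by
  classical
  by_contra hcon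
  push Not at hcon
  have key : ∀ τ : Fin n → F, τ ≠ 0 → ∃ κ : F, ∀ i : Fin (n + 1),
      (cc n b' d' (aa n a₀ t τ) p - c).coeff ((i : ℕ) + 1) = κ * (aa n a₀ t τ - a).coeff ((i : ℕ) + 1) := by
    intro τ hτ
    have h1 := hcon τ
    rw [LinearIndependent.pair_iff] at h1
    push Not at h1
    obtain ⟨s, u, hsu, hne⟩ := h1
    have hu : u ≠ 0 := by
      rintro rfl
      have hs : s ≠ 0 := fun h0 => hne h0 rfl
      apply hτ
      funext i
      have h2 := congrFun hsu i.castSucc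
      simp only [Pi.add_apply, Pi.smul_apply, smul_eq_mul, zero_mul, add_zero, Pi.zero_apply, mul_eq_zero, hs, false_or,
        Fin.val_castSucc, coeff_sub, ha, sub_zero, aa_coeff_mid] at h2
      exact h2
    refine ⟨-s / u, fun i => ?_⟩
    have h2 := congrFun hsu i
    simp only [Pi.add_apply, Pi.smul_apply, smul_eq_mul, Pi.zero_apply] at h2
    field_simp
    linear_combination h2
  choose κ hκ using key
  let f : (Fin n → F) → Option F := fun τ => if h : τ = 0 then none else some (κ τ h)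
  have hf : Function.Injective f := by
    intro τ τ' h
    by_cases h1 : τ = 0
    · by_cases h2 : τ' = 0
      · rw [h1, h2]
      · simp only [f, dif_pos h1, dif_neg h2] at h
        exact absurd h (by simp)
    · by_cases h2 : τ' = 0
      · simp only [f, dif_pos h2, dif_neg h1] at h
        exact absurd h (by simp)
      · simp only [f, dif_neg h1, dif_neg h2, Option.some.injEq] at h
        refine tau_inj hb hp hpd ht (hκ τ h1) (κ := κ τ h1) ?_
        rw [h]
        exact hκ τ' h2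
  have h1 := Nat.card_le_card_of_injective f hf
  rw [Nat.card_fun, Nat.card_eq_fintype_card (α := Fin n), Fintype.card_fin, Finite.card_option] at h1
  have h2 : 2 ≤ Nat.card F := Finite.one_lt_card
  have h3 : Nat.card F ^ 2 ≤ Nat.card F ^ n := Nat.pow_le_pow_right (by omega) hn
  nlinarith

/-- `n = 1`, at least three elements: a quadratic equation -/
theorem exists_tau_one [Finite F] (hF : 3 ≤ Nat.card F) {b' d' a₀ t : F} (hb : b' ≠ 0) {a c : F[X]}
    (ha : a.coeff 1 = 0) :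
    ∃ τ : Fin 1 → F, LinearIndependent F ![fun i : Fin (1 + 1) => (aa 1 a₀ t τ - a).coeff ((i : ℕ) + 1),
      fun i : Fin (1 + 1) => (cc 1 b' d' (aa 1 a₀ t τ) p - c).coeff ((i : ℕ) + 1)] := by
  classical
  by_contra hcon
  push Not at hcon
  have e1 : ∀ τ : Fin 1 → F, (aa 1 a₀ t τ).coeff 1 = τ 0 := fun τ => aa_coeff_mid a₀ t τ 0
  have e2 : ∀ τ : Fin 1 → F, (aa 1 a₀ t τ).coeff 2 = t := fun τ => aa_coeff_top a₀ t τ
  have e0 : ∀ τ : Fin 1 → F, (aa 1 a₀ t τ).coeff 0 = a₀ := fun τ => aa_coeff_zero a₀ t τ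
  have f1 : ∀ τ : Fin 1 → F, b' * (cc 1 b' d' (aa 1 a₀ t τ) p).coeff 1 = - a₀ + d' * τ 0 - p.coeff 1 := fun τ => by
    have h := congrArg (fun f : F[X] => f.coeff 1) (cc_mul (n := 1) hb d' (aa 1 a₀ t τ) p)
    have e : (X - C d') * (X ^ (1 + 2) - aa 1 a₀ t τ) - p =
      X * (X ^ 3) - X * aa 1 a₀ t τ - C d' * X ^ 3 + C d' * aa 1 a₀ t τ - p := by ring
    rw [e] at h
    simp only [coeff_sub, coeff_add, coeff_C_mul, coeff_X_mul, coeff_X_pow, e0, e1] at h
    rw [h]
    norm_num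
    try ring
  have f2 : ∀ τ : Fin 1 → F, b' * (cc 1 b' d' (aa 1 a₀ t τ) p).coeff 2 = - τ 0 + d' * t - p.coeff 2 := fun τ => by
    have h := congrArg (fun f : F[X] => f.coeff 2) (cc_mul (n := 1) hb d' (aa 1 a₀ t τ) p)
    have e : (X - C d') * (X ^ (1 + 2) - aa 1 a₀ t τ) - p =
      X * (X ^ 3) - X * aa 1 a₀ t τ - C d' * X ^ 3 + C d' * aa 1 a₀ t τ - p := by ring
    rw [e] at h
    simp only [coeff_sub, coeff_add, coeff_C_mul, coeff_X_mul, coeff_X_pow, e1, e2] at h
    rw [h]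
    norm_num
    try ring
  -- the determinant vanishes
  have key : ∀ x : F, x * (- x + d' * t - p.coeff 2 - b' * c.coeff 2) -
      (t - a.coeff 2) * (- a₀ + d' * x - p.coeff 1 - b' * c.coeff 1) = 0 := by
    intro x
    by_contra hx
    apply hcon (fun _ => x)
    rw [LinearIndependent.pair_iff]
    intro r s h
    have h0 := congrFun h 0
    have h1 := congrFun h 1
    simp only [Pi.add_apply, Pi.smul_apply, smul_eq_mul, Pi.zero_apply, coeff_sub, Fin.val_zero, Fin.val_one, zero_add,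
      show (1 + 1 : ℕ) = 2 from rfl, e1, e2, ha, sub_zero] at h0 h1
    have g1 := f1 (fun _ => x)
    have g2 := f2 (fun _ => x)
    have hs : s * (x * (- x + d' * t - p.coeff 2 - b' * c.coeff 2) -
      (t - a.coeff 2) * (- a₀ + d' * x - p.coeff 1 - b' * c.coeff 1)) = 0 := by
      linear_combination b' * x * h1 - b' * (t - a.coeff 2) * h0 - s * x * g2 + s * (t - a.coeff 2) * g1
    have hs0 : s = 0 := (mul_eq_zero.1 hs).resolve_right hx
    refine ⟨?_, hs0⟩
    rw [hs0, zero_mul, add_zero] at h0 h1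
    by_contra hr
    have hx0 : x = 0 := (mul_eq_zero.1 h0).resolve_left hr
    have ht : t - a.coeff 2 = 0 := (mul_eq_zero.1 h1).resolve_left hr
    apply hx
    rw [hx0, ht]
    ring
  obtain ⟨u, hu0, hu1⟩ : ∃ u : F, u ≠ 0 ∧ u ≠ 1 := by
    by_contra h
    push Not at h
    have hsub : ∀ u : F, u = 0 ∨ u = 1 := fun u => by
      by_cases h0 : u = 0
      · exact Or.inl h0
      · exact Or.inr (h u h0)
    have h1 : Nat.card F ≤ Nat.card Bool := Nat.card_le_card_of_injective (fun u : F => decide (u = 0)) (by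
      intro u v huv
      rcases hsub u with rfl | rfl <;> rcases hsub v with rfl | rfl <;> simp_all)
    rw [Nat.card_eq_fintype_card (α := Bool), Fintype.card_bool] at h1
    omega
  have k0 := key 0
  have k1 := key 1
  have ku := key u
  have hu : u * (u - 1) = 0 := by linear_combination u * k1 - ku - (u - 1) * k0
  rcases mul_eq_zero.1 hu with h | h
  · exact hu0 h
  · exact hu1 (sub_eq_zero.1 h)

/-- both cases -/
theorem exists_tau' [Finite F] (hn : 2 ≤ n ∨ (n = 1 ∧ 3 ≤ Nat.card F)) {b' d' a₀ t : F} (hb : b' ≠ 0) (hp : p.Monic)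
    (hpd : p.natDegree = n + 3) (ht : t = - p.coeff (n + 2) - d') {a c : F[X]}
    (ha : ∀ i : Fin n, a.coeff ((i : ℕ) + 1) = 0) :
    ∃ τ : Fin n → F, LinearIndependent F ![fun i : Fin (n + 1) => (aa n a₀ t τ - a).coeff ((i : ℕ) + 1),
      fun i : Fin (n + 1) => (cc n b' d' (aa n a₀ t τ) p - c).coeff ((i : ℕ) + 1)] := by
  rcases hn with h | ⟨rfl, h⟩
  · exact exists_tau h hb hp hpd ht ha
  · exact exists_tau_one h hb (ha 0)

end Pol

/-! ### The main theorem -/

section Main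

variable [FiniteDimensional F V] {n : ℕ}

theorem coeff_zero_mul (A Z : End F V) : (LinearMap.charpoly (A * Z)).coeff 0 =
    LinearMap.det A * (LinearMap.charpoly Z).coeff 0 := by
  have h1 := LinearMap.det_eq_sign_charpoly_coeff (A * Z)
  have h2 := LinearMap.det_eq_sign_charpoly_coeff Z
  have h3 : ((-1 : F) ^ finrank F V) * ((-1 : F) ^ finrank F V) = 1 := by
    rw [← mul_pow]; simp
  have h4 : LinearMap.det (A * Z) = LinearMap.det A * LinearMap.det Z := LinearMap.det_comp A Z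
  calc (LinearMap.charpoly (A * Z)).coeff 0
      = ((-1 : F) ^ finrank F V * (-1 : F) ^ finrank F V) * (LinearMap.charpoly (A * Z)).coeff 0 := by rw [h3, one_mul]
    _ = (-1 : F) ^ finrank F V * LinearMap.det (A * Z) := by rw [h1]; ring
    _ = LinearMap.det A * (((-1 : F) ^ finrank F V * (-1 : F) ^ finrank F V) * (LinearMap.charpoly Z).coeff 0) := by
      rw [h4, h2]; ring
    _ = _ := by rw [h3, one_mul]

/-- the element of `V` with the coordinates `a₀`, `b` and the part in `W` -/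
theorem ev_eq (B : Basis (Fin (n + 3)) F V) (h : F[X]) :
    ev B h = h.coeff 0 • B 0 + ∑ i : Fin (n + 1), h.coeff ((i : ℕ) + 1) • B i.succ.castSucc := by
  rw [ev, Fin.sum_univ_succ]
  rfl

/-- the core: two complementary vectors and the polynomials of the two chains -/
theorem core (hV : finrank F V = n + 3) {A : End F V} {W : Submodule F V} (hWd : finrank F W = n + 1)
    (hWA : ∀ w ∈ W, A w = w) {x y : V} (hindW : ∀ s t : F, s • x + t • y ∈ W → s = 0 ∧ t = 0) {α₁ α₂ α₃ α₄ : F}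
    {ω₀ ω₁ : V} (hω₀ : ω₀ ∈ W) (hω₁ : ω₁ ∈ W) (hω : ∀ r s : F, r • ω₀ + s • ω₁ = 0 → r = 0 ∧ s = 0)
    (hAx : A x = (1 + α₁) • x + ω₀ + α₂ • y) (hAy : A y = α₃ • x + ω₁ + (1 + α₄) • y) {p g : F[X]}
    (hg0 : g.coeff 0 ≠ 0) (hdet : p.coeff 0 = LinearMap.det A * g.coeff 0) {a c a' c' : F[X]} {b d b' d' : F}
    (hb : b ≠ 0) (hb' : b' ≠ 0) (had : a.natDegree < n + 2) (hcd : c.natDegree < n + 2) (ha'd : a'.natDegree < n + 2)
    (hc'd : c'.natDegree < n + 2) (hZ : (X - C d) * (X ^ (n + 2) - a) - C b * c = g)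
    (hZ' : (X - C d') * (X ^ (n + 2) - a') - C b' * c' = p) (eb : b' = a.coeff 0 * α₂ + b * (1 + α₄))
    (ea : a'.coeff 0 = a.coeff 0 * (1 + α₁) + b * α₃) (ed : d' = c.coeff 0 * α₂ + d * (1 + α₄))
    (hτ : LinearIndependent F ![fun i : Fin (n + 1) => (a' - a).coeff ((i : ℕ) + 1),
      fun i : Fin (n + 1) => (c' - c).coeff ((i : ℕ) + 1)]) :
    ∃ Z : End F V, LinearMap.charpoly (A * Z) = p ∧ LinearMap.charpoly Z = g := by
  obtain ⟨a₀, ha₀⟩ : ∃ a₀, a₀ = a.coeff 0 := ⟨_, rfl⟩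
  obtain ⟨c₀, hc₀⟩ : ∃ c₀, c₀ = c.coeff 0 := ⟨_, rfl⟩
  have hgd : a₀ * d - b * c₀ = g.coeff 0 := by
    rw [← hZ, coeff_sub, mul_coeff_zero, coeff_sub, coeff_sub, coeff_X_zero, coeff_C_zero, coeff_X_pow, if_neg (by omega),
      coeff_C_mul, ha₀, hc₀]
    ring
  rw [← ha₀] at eb ea
  rw [← hc₀] at ed
  -- the vectors in `W`
  have hν₁ : a₀ • ω₀ + b • ω₁ ∈ W := W.add_mem (W.smul_mem _ hω₀) (W.smul_mem _ hω₁)
  have hν₂ : c₀ • ω₀ + d • ω₁ ∈ W := W.add_mem (W.smul_mem _ hω₀) (W.smul_mem _ hω₁)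
  have hν : LinearIndependent F ![(⟨a₀ • ω₀ + b • ω₁, hν₁⟩ : W), ⟨c₀ • ω₀ + d • ω₁, hν₂⟩] := by
    rw [LinearIndependent.pair_iff]
    intro r s h
    have h1 : r • (a₀ • ω₀ + b • ω₁) + s • (c₀ • ω₀ + d • ω₁) = 0 := congrArg (fun w : W => (w : V)) h
    have h2 : (r * a₀ + s * c₀) • ω₀ + (r * b + s * d) • ω₁ = 0 := by rw [← h1]; module
    obtain ⟨h3, h4⟩ := hω _ _ h2
    have h5 : r * g.coeff 0 = 0 := by rw [← hgd]; linear_combination d * h3 - c₀ * h4
    have h6 : s * g.coeff 0 = 0 := by rw [← hgd]; linear_combination a₀ * h4 - b * h3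
    exact ⟨(mul_eq_zero.1 h5).resolve_right hg0, (mul_eq_zero.1 h6).resolve_right hg0⟩
  obtain ⟨T, hT⟩ := exists_equiv_pair (F := F) (U := Fin (n + 1) → F) (W := W)
    (by rw [Module.finrank_fin_fun, hWd]) hτ hν
  have hT0 : T (fun i : Fin (n + 1) => (a' - a).coeff ((i : ℕ) + 1)) = ⟨a₀ • ω₀ + b • ω₁, hν₁⟩ := hT 0
  have hT1 : T (fun i : Fin (n + 1) => (c' - c).coeff ((i : ℕ) + 1)) = ⟨c₀ • ω₀ + d • ω₁, hν₂⟩ := hT 1
  -- the basis
  let β : Basis (Fin (n + 1)) F W := (Pi.basisFun F (Fin (n + 1))).map T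
  have hβ : ∀ f : Fin (n + 1) → F, ∑ i, f i • (β i : V) = (T f : V) := by
    intro f
    have h1 : T f = ∑ i, f i • β i := by
      conv_lhs => rw [← (Pi.basisFun F (Fin (n + 1))).sum_repr f]
      rw [map_sum]
      exact Finset.sum_congr rfl fun i _ => by rw [map_smul, Basis.map_apply]; rfl
    rw [h1, Submodule.coe_sum]
    rfl
  obtain ⟨B, hBx, hBβ, hBy⟩ := exists_basis (W := W) hV hindW (fun i => (β i : V))
    (β.linearIndependent.map' W.subtype (Submodule.ker_subtype W)) (fun i => (β i).2)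
  have hev : ∀ h : F[X], ev B h = h.coeff 0 • x + (T (fun i : Fin (n + 1) => h.coeff ((i : ℕ) + 1)) : V) := by
    intro h
    rw [ev_eq, hBx, ← hβ]
    simp only [hBβ]
  obtain ⟨Z, hZc⟩ := exists_chain B a c b d
  have hwT : ∀ w : W, A (w : V) = w := fun w => hWA _ w.2
  obtain ⟨ε, hε⟩ : ∃ ε, ε = c₀ * (1 + α₁) + d * α₃ - c'.coeff 0 := ⟨_, rfl⟩
  have hsub : ∀ h h' : F[X], (T (fun i : Fin (n + 1) => h'.coeff ((i : ℕ) + 1)) : V) =
      (T (fun i : Fin (n + 1) => h.coeff ((i : ℕ) + 1)) : V) + (T (fun i : Fin (n + 1) => (h' - h).coeff ((i : ℕ) + 1)) : V) := by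
    intro h h'
    rw [← Submodule.coe_add, ← map_add]
    congr 2
    funext i
    simp only [Pi.add_apply, coeff_sub]
    ring
  have hchain : IsChain B (A * Z) a' (c' + C ε) b' d' := by
    refine ⟨fun i => ?_, ?_, ?_⟩
    · rw [Module.End.mul_apply, hZc.step i, hBβ]
      exact hwT _
    · rw [Module.End.mul_apply, hZc.one, map_add, map_smul, hev a, map_add, map_smul, hBy, hwT, hev a', hsub a a', hT0,
        ← ha₀, ea, hAx, hAy, eb]
      module
    · rw [Module.End.mul_apply, hZc.two, map_add, map_smul, hev c, map_add, map_smul, hwT, hBy, hAx, hAy, hev (c' + C ε)]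
      have h1 : (fun i : Fin (n + 1) => (c' + C ε).coeff ((i : ℕ) + 1)) = fun i : Fin (n + 1) => c'.coeff ((i : ℕ) + 1) := by
        funext i; rw [coeff_add, coeff_C_succ, add_zero]
      have h2 : (c' + C ε).coeff 0 = c₀ * (1 + α₁) + d * α₃ := by rw [coeff_add, coeff_C_zero, hε]; ring
      rw [h1, h2, hsub c c', hT1, ← hc₀, ed]
      module
  have hcp := hchain.charpoly ha'd (by
    refine lt_of_le_of_lt (natDegree_add_le _ _) (max_lt hc'd ?_)
    rw [natDegree_C]; omega) hb'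
  have hcp' : LinearMap.charpoly (A * Z) = p - C (b' * ε) := by
    rw [hcp, mul_add, ← C_mul]
    linear_combination hZ'
  have hZcp : LinearMap.charpoly Z = g := by
    rw [hZc.charpoly had hcd hb]
    exact hZ
  refine ⟨Z, ?_, hZcp⟩
  have h1 := coeff_zero_mul A Z
  rw [hcp', hZcp, ← hdet, coeff_sub, coeff_C_zero] at h1
  have h2 : b' * ε = 0 := by linear_combination -h1
  rw [hcp', h2, C_0, sub_zero]

theorem exists_rank_two [Finite F] (hn : 2 ≤ n ∨ (n = 1 ∧ 3 ≤ Nat.card F)) (hV : finrank F V = n + 3) {A : End F V} (hA : LinearMap.det A ≠ 0)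
    (hr : finrank F (LinearMap.range (A - 1)) = 2) {p g : F[X]} (hp : p.Monic) (hpd : p.natDegree = n + 3)
    (hg : g.Monic) (hgd : g.natDegree = n + 3) (hg0 : g.coeff 0 ≠ 0) (hdet : p.coeff 0 = LinearMap.det A * g.coeff 0) :
    ∃ Z : End F V, LinearMap.charpoly (A * Z) = p ∧ LinearMap.charpoly Z = g := by
  obtain ⟨N, hN⟩ : ∃ N, N = A - 1 := ⟨_, rfl⟩
  have hAN : ∀ v, A v = v + N v := fun v => by rw [hN, LinearMap.sub_apply, Module.End.one_apply]; abel
  rw [← hN] at hr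
  obtain ⟨W, hW⟩ : ∃ W, W = LinearMap.ker N := ⟨_, rfl⟩
  obtain ⟨R, hR⟩ : ∃ R, R = LinearMap.range N := ⟨_, rfl⟩
  have hWd : finrank F W = n + 1 := by
    have := LinearMap.finrank_range_add_finrank_ker N
    rw [hW]; omega
  have hRd : finrank F R = 2 := by rw [hR]; exact hr
  -- the complement
  obtain ⟨x, hxW, hxR⟩ : ∃ x, x ∉ W ∧ x ∉ R := exists_notMem_two
    (fun h => by rw [h, finrank_top] at hWd; omega) (fun h => by rw [h, finrank_top] at hRd; omega)
  have hs : ∀ P : Submodule F V, finrank F P < n + 2 → P ⊔ Submodule.span F {x} ≠ ⊤ := by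
    intro P hP h
    have h1 := Submodule.finrank_add_le_finrank_add_finrank P (Submodule.span F {x})
    rw [h, finrank_top] at h1
    have h2 : finrank F (Submodule.span F {x}) ≤ 1 := le_trans (finrank_span_le_card ({x} : Set V)) (by simp)
    omega
  obtain ⟨y, hyW, hyR⟩ : ∃ y, y ∉ W ⊔ Submodule.span F {x} ∧ y ∉ R ⊔ Submodule.span F {x} :=
    exists_notMem_two (hs W (by omega)) (hs R (by omega))
  have hind : ∀ P : Submodule F V, x ∉ P → y ∉ P ⊔ Submodule.span F {x} → ∀ s t : F, s • x + t • y ∈ P → s = 0 ∧ t = 0 := by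
    intro P hx hy s t h
    have ht : t = 0 := by
      by_contra ht
      apply hy
      have h1 : y = t⁻¹ • (s • x + t • y) + (-(t⁻¹ * s)) • x := by
        rw [smul_add, smul_smul, smul_smul, inv_mul_cancel₀ ht, one_smul, neg_smul]; abel
      rw [h1]
      exact Submodule.add_mem_sup (P.smul_mem _ h) (Submodule.smul_mem _ _ (Submodule.mem_span_singleton_self x))
    refine ⟨?_, ht⟩
    by_contra hs0
    apply hx
    rw [ht, zero_smul, add_zero] at h
    have h1 : x = s⁻¹ • (s • x) := by rw [smul_smul, inv_mul_cancel₀ hs0, one_smul]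
    rw [h1]
    exact P.smul_mem _ h
  have hindW := hind W hxW hyW
  have hindR := hind R hxR hyR
  -- coordinates
  let β₀ := Module.finBasisOfFinrankEq F W hWd
  obtain ⟨B₀, hB0, hBi, hBl⟩ := exists_basis (W := W) hV hindW (fun i => (β₀ i : V))
    (β₀.linearIndependent.map' W.subtype (Submodule.ker_subtype W)) (fun i => (β₀ i).2)
  have hco : ∀ v : V, ∃ s t : F, ∃ w ∈ W, v = s • x + w + t • y := by
    intro v
    refine ⟨B₀.repr v 0, B₀.repr v (Fin.last _), ∑ i : Fin (n + 1), B₀.repr v i.succ.castSucc • (β₀ i : V),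
      Submodule.sum_mem _ fun i _ => W.smul_mem _ (β₀ i).2, ?_⟩
    conv_lhs => rw [← B₀.sum_repr v, Fin.sum_univ_castSucc, Fin.sum_univ_succ]
    rw [hBl]
    simp only [hBi]
    rw [show (Fin.castSucc (0 : Fin (n + 2)) : Fin (n + 3)) = 0 from rfl, hB0]
  obtain ⟨α₁, α₂, ω₀, hω₀, hx⟩ := hco (N x)
  obtain ⟨α₃, α₄, ω₁, hω₁, hy⟩ := hco (N y)
  have hNW : ∀ w ∈ W, N w = 0 := fun w hw => by rw [hW] at hw; exact hw
  have hω : ∀ r s : F, r • ω₀ + s • ω₁ = 0 → r = 0 ∧ s = 0 := by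
    intro r s h
    have h1 : N (r • x + s • y) = (r * α₁ + s * α₃) • x + (r * α₂ + s * α₄) • y := by
      rw [map_add, map_smul, map_smul, hx, hy]
      calc r • (α₁ • x + ω₀ + α₂ • y) + s • (α₃ • x + ω₁ + α₄ • y)
          = (r • ω₀ + s • ω₁) + ((r * α₁ + s * α₃) • x + (r * α₂ + s * α₄) • y) := by module
        _ = _ := by rw [h, zero_add]
    have h2 : N (r • x + s • y) ∈ R := by rw [hR]; exact ⟨_, rfl⟩
    have h3 := h2
    rw [h1] at h3
    obtain ⟨h4, h5⟩ := hindR _ _ h3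
    rw [h1, h4, h5, zero_smul, zero_smul, add_zero] at h2
    have h6 : r • x + s • y ∈ W := by
      rw [hW, LinearMap.mem_ker, h1, h4, h5, zero_smul, zero_smul, add_zero]
    exact hindW _ _ h6
  -- the choice of `a₀`, `b`
  obtain ⟨a₀, b, hb, hb'⟩ : ∃ a₀ b : F, b ≠ 0 ∧ a₀ * α₂ + b * (1 + α₄) ≠ 0 := by
    by_cases h4 : 1 + α₄ = 0
    · refine ⟨1, 1, one_ne_zero, ?_⟩
      rw [h4, mul_zero, add_zero, one_mul]
      intro h2
      -- `A` is not surjective
      have hsurj : Function.Surjective A := (LinearMap.equivOfDetNeZero A hA).surjective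
      obtain ⟨v, hv⟩ := hsurj y
      obtain ⟨s, t, w, hw, hv'⟩ := hco v
      have h5 : A v = (s + s * α₁ + t * α₃) • x + (w + s • ω₀ + t • ω₁) := by
        rw [hAN, hv', map_add, map_add, map_smul, map_smul, hNW w hw, hx, hy, h2]
        have : t • y + t • (α₄ • y) = 0 := by rw [smul_smul, ← add_smul, ← mul_one_add, h4, mul_zero, zero_smul]
        calc s • x + w + t • y + (s • (α₁ • x + ω₀ + (0 : F) • y) + 0 + t • (α₃ • x + ω₁ + α₄ • y))
            = (s + s * α₁ + t * α₃) • x + (w + s • ω₀ + t • ω₁) + (t • y + t • (α₄ • y)) := by module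
          _ = _ := by rw [this, add_zero]
      rw [hv] at h5
      apply hyW
      rw [h5, add_comm]
      exact Submodule.add_mem_sup (W.add_mem (W.add_mem hw (W.smul_mem _ hω₀)) (W.smul_mem _ hω₁))
        (Submodule.smul_mem _ _ (Submodule.mem_span_singleton_self x))
    · exact ⟨0, 1, one_ne_zero, by rw [zero_mul, zero_add, one_mul]; exact h4⟩
  -- the polynomials
  obtain ⟨a, ha⟩ : ∃ a, a = aa n a₀ (-g.coeff (n + 2)) (0 : Fin n → F) := ⟨_, rfl⟩
  have had : a.natDegree < n + 2 := by rw [ha]; exact aa_degree _ _ _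
  have ha0 : a.coeff 0 = a₀ := by rw [ha, aa_coeff_zero]
  have ham : ∀ i : Fin n, a.coeff ((i : ℕ) + 1) = 0 := fun i => by rw [ha, aa_coeff_mid]; rfl
  have hat : a.coeff (n + 1) = - g.coeff (n + 2) - 0 := by rw [ha, aa_coeff_top, sub_zero]
  obtain ⟨c, hc⟩ : ∃ c, c = cc n b 0 a g := ⟨_, rfl⟩
  have hcd : c.natDegree < n + 2 := by rw [hc]; exact cc_degree hg hgd had hat
  have hc0 : c.coeff 0 ≠ 0 := by
    rw [hc, cc_coeff_zero, zero_mul, zero_sub]
    exact mul_ne_zero (inv_ne_zero hb) (neg_ne_zero.2 hg0)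
  obtain ⟨c₀, hc₀⟩ : ∃ c₀, c₀ = c.coeff 0 := ⟨_, rfl⟩
  rw [← hc₀] at hc0
  obtain ⟨b', hb'e⟩ : ∃ b', b' = a₀ * α₂ + b * (1 + α₄) := ⟨_, rfl⟩
  rw [← hb'e] at hb'
  obtain ⟨a₀', ha₀'⟩ : ∃ a₀', a₀' = a₀ * (1 + α₁) + b * α₃ := ⟨_, rfl⟩
  obtain ⟨d', hd'⟩ : ∃ d', d' = c₀ * α₂ := ⟨_, rfl⟩
  obtain ⟨τ, hτ⟩ := exists_tau' (F := F) (p := p) hn (b' := b') (d' := d') (a₀ := a₀') (t := - p.coeff (n + 2) - d') hb' hp hpd rfl
    (a := a) (c := c) ham
  obtain ⟨a', ha'⟩ : ∃ a', a' = aa n a₀' (- p.coeff (n + 2) - d') τ := ⟨_, rfl⟩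
  rw [← ha'] at hτ
  have ha'd : a'.natDegree < n + 2 := by rw [ha']; exact aa_degree _ _ _
  have ha'0 : a'.coeff 0 = a₀' := by rw [ha', aa_coeff_zero]
  have ha't : a'.coeff (n + 1) = - p.coeff (n + 2) - d' := by rw [ha', aa_coeff_top]
  obtain ⟨c', hc'⟩ : ∃ c', c' = cc n b' d' a' p := ⟨_, rfl⟩
  rw [← hc'] at hτ
  have hc'd : c'.natDegree < n + 2 := by rw [hc']; exact cc_degree hp hpd ha'd ha't
  exact core hV hWd (fun w hw => by rw [hAN, hNW w hw, add_zero]) hindW (α₁ := α₁) (α₂ := α₂) (α₃ := α₃) (α₄ := α₄)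
    hω₀ hω₁ hω (by rw [hAN, hx]; module) (by rw [hAN, hy]; module) hg0 hdet hb hb' had hcd ha'd hc'd
    (by rw [hc]; exact cc_char hb 0 a g) (by rw [hc']; exact cc_char hb' d' a' p) (by rw [ha0]; exact hb'e)
    (by rw [ha'0, ha0]; exact ha₀') (by rw [zero_mul, add_zero, ← hc₀]; exact hd') hτ

end Main

end Cfsg.Agent.H130.War
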