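import Cfsg.Agent.H130.War.RankLe
import Cfsg.Agent.H295.War.Eng

/-!
# The small rank case in the form of helper295's engine (S2453)

`rk` : `RK F m k`; `rkn` : the form needed by the engine (norm one polynomials, `g = p` or the reciprocal), which is also true
for `m = 4`, `|F| = 2`.
-/

set_option autoImplicit false

namespace Cfsg.Agent.H130.War

open Polynomial Module Cfsg.Agent.H295.War

/-- `RK` with a norm one polynomial `p` and `g = p` or `g` the reciprocal of `p` -/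
def RKN (F : Type*) [Field F] (m k : ℕ) : Prop :=
  ∀ (A : Matrix (Fin m) (Fin m) F) (c : F), A.det = 1 → c ≠ 0 → (A - c • 1).rank ≤ k → A ≠ c • 1 → ∀ p g : F[X],
    NP m p → (g = p ∨ g = C ((-1) ^ m) * p.reverse) →
    p ≠ C (c ^ m) * g.comp (C c⁻¹ * X) →
    ∃ X Z : Matrix (Fin m) (Fin m) F, A * Z = X ∧ X.charpoly = p ∧ Z.charpoly = g

variable {F : Type*} [Field F] {m k : ℕ}

theorem rkn_of (h : RK F m k) : RKN F m k := by
  intro A c hdet hc hr hA p g hp hg hne
  obtain ⟨h1, h2, h3, -⟩ := hp.dual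
  rcases hg with rfl | rfl
  · exact h A c hdet hc hr hA g g hp.monic hp.deg hp.c0 hp.monic hp.deg hp.c0 hne
  · exact h A c hdet hc hr hA p _ hp.monic hp.deg hp.c0 h1 h2 h3 hne

theorem pm_ne (m : ℕ) : (-1 : F) ^ m ≠ 0 := pow_ne_zero _ (neg_ne_zero.2 one_ne_zero)

theorem rank_pos {A : Matrix (Fin m) (Fin m) F} {c : F} (hA : A ≠ c • (1 : Matrix (Fin m) (Fin m) F)) :
    (A - c • (1 : Matrix (Fin m) (Fin m) F)).rank ≠ 0 := by
  intro h
  rw [← rank_toLin, Submodule.finrank_eq_zero, LinearMap.range_eq_bot, sub_eq_zero] at h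
  exact ne_smul_one hA h

/-- rank 0 is void -/
theorem rk_zero : RK F m 0 := by
  intro A c _ _ hr hA
  exact absurd (Nat.le_zero.1 hr) (rank_pos hA)

/-- rank 1 : any field -/
theorem rk_one (hm : 2 ≤ m) (hk : k ≤ 1) : RK F m k := by
  intro A c hdet hc hr hA p g hp hpd hp0 hg hgd hg0 hne
  have := rank_pos hA
  exact exists_mul_rank_one hm A hc (by omega) hp hpd hg hgd (by rw [hg0]; exact pm_ne m)
    (by rw [hdet, one_mul, hp0, hg0]) hne

/-- **rank ≤ 2** -/
theorem rk_two [Finite F] (hm : 5 ≤ m ∨ (m = 4 ∧ 3 ≤ Nat.card F)) (hk : k ≤ 2) : RK F m k := by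
  intro A c hdet hc hr hA p g hp hpd hp0 hg hgd hg0 hne
  exact exists_mul_rank' hm A hc (hr.trans hk) hA hp hpd (by rw [hp0]; exact pm_ne m) hg hgd (by rw [hg0]; exact pm_ne m)
    (by rw [hdet, one_mul, hp0, hg0]) hne

/-- **rank ≤ 2, every finite field, `m ≥ 4`** -/
theorem rkn [Finite F] (hm : 4 ≤ m) (hk : k ≤ 2) : RKN F m k := by
  rcases Nat.lt_or_ge 4 m with h | h
  · exact rkn_of (rk_two (Or.inl h) hk)
  have h4 : m = 4 := by omega
  by_cases hF : 3 ≤ Nat.card F
  · exact rkn_of (rk_two (Or.inr ⟨h4, hF⟩) hk)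
  subst h4
  have hcard : Nat.card F = 2 := by
    have := Finite.one_lt_card (α := F)
    omega
  have hF2 : ∀ u : F, u = 0 ∨ u = 1 := by
    intro u
    by_contra hu
    push Not at hu
    have h1 : Function.Injective (![0, 1, u] : Fin 3 → F) := by
      intro i j hij
      fin_cases i <;> fin_cases j <;> simp_all
    have h2 := Nat.card_le_card_of_injective _ h1
    rw [Nat.card_eq_fintype_card (α := Fin 3), Fintype.card_fin] at h2
    omega
  intro A c hdet hc hr hA p g hp hg hne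
  obtain ⟨h1, h2, h3, -⟩ := hp.dual
  have hg' : g.Monic ∧ g.natDegree = 4 ∧ g.coeff 0 = (-1) ^ 4 ∧ p.coeff 2 = g.coeff 2 := by
    rcases hg with rfl | rfl
    · exact ⟨hp.monic, hp.deg, hp.c0, rfl⟩
    · refine ⟨h1, h2, h3, ?_⟩
      rw [coeff_C_mul, coeff_reverse, hp.deg, revAt_le (show 2 ≤ 4 by norm_num)]
      norm_num
  obtain ⟨hg1, hg2, hg3, hg4⟩ := hg'
  exact exists_mul_rank_F2 hF2 A hc (hr.trans hk) hA hp.monic hp.deg (by rw [hp.c0]; exact pm_ne 4) hg1 hg2
    (by rw [hg3]; exact pm_ne 4) (by rw [hdet, one_mul, hp.c0, hg3]) hne hg4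

end Cfsg.Agent.H130.War
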